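import Mathlib
import Cfsg.Agent.Lib.Helper4.BGTransG

/-!
# Bender–Glauberman, Sections 8–9: basic facts on maximal subgroups of a minimal simple group of odd order
-/

set_option autoImplicit false
set_option linter.unusedVariables false
set_option linter.unusedSectionVars false

open scoped commutatorElement Pointwise

namespace Cfsg.Agent.H2.BGU

open Cfsg Cfsg.Agent.Lib.Helper4.ThreeStep Cfsg.Agent.Lib.Lead.Conj Cfsg.Agent.Lib.Lead.PiCore
  Cfsg.Agent.Lib.Helper4.BGTrans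

universe u

variable {G : Type u} [Group G] [Finite G]

theorem solvable_of_le_coatom (hG : Cfsg.IsMinSimpleOddOrder G) {M X : Subgroup G} (hM : IsCoatom M)
    (hXM : X ≤ M) : Group.IsSolvable ↥X := by
  apply solvable_of_ne_top hG
  rintro rfl
  exact hM.1 (top_le_iff.mp hXM)

theorem ne_top_of_le_coatom {M X : Subgroup G} (hM : IsCoatom M) (hXM : X ≤ M) : X ≠ ⊤ := by
  rintro rfl
  exact hM.1 (top_le_iff.mp hXM)

theorem odd_card_subgroup (hG : Cfsg.IsMinSimpleOddOrder G) (X : Subgroup G) : Odd (Nat.card ↥X) :=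
  Odd.of_dvd_nat hG.1 (Subgroup.card_subgroup_dvd_card X)

/-- a coatom is the full normalizer of each nontrivial subgroup it normalizes and contains -/
theorem normalizer_eq_coatom (hG : Cfsg.IsMinSimpleOddOrder G) {M Y : Subgroup G} (hM : IsCoatom M)
    (hY1 : Y ≠ ⊥) (hYM : Y ≤ M) (hMY : M ≤ Subgroup.normalizer (Y : Set G)) :
    Subgroup.normalizer (Y : Set G) = M := by
  have hYs : Group.IsSolvable ↥Y := solvable_of_le_coatom hG hM hYM
  have hN : Subgroup.normalizer (Y : Set G) ≠ ⊤ := normalizer_ne_top hG.2 Y hY1 hYs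
  by_contra hne
  exact hN (hM.2 _ (lt_of_le_of_ne hMY (Ne.symm hne)))

theorem coatom_eq_of_le_normalizer (hG : Cfsg.IsMinSimpleOddOrder G) {M H Y : Subgroup G}
    (hM : IsCoatom M) (hH : IsCoatom H) (hY1 : Y ≠ ⊥) (hYM : Y ≤ M)
    (hMY : M ≤ Subgroup.normalizer (Y : Set G)) (hHY : H ≤ Subgroup.normalizer (Y : Set G)) :
    H = M := by
  rw [normalizer_eq_coatom hG hM hY1 hYM hMY] at hHY
  by_contra hne
  exact hM.1 (hH.2 _ (lt_of_le_of_ne hHY hne))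

theorem le_coatom_of_le_normalizer (hG : Cfsg.IsMinSimpleOddOrder G) {M X Y : Subgroup G}
    (hM : IsCoatom M) (hY1 : Y ≠ ⊥) (hYM : Y ≤ M)
    (hMY : M ≤ Subgroup.normalizer (Y : Set G)) (hXY : X ≤ Subgroup.normalizer (Y : Set G)) :
    X ≤ M := by
  rwa [normalizer_eq_coatom hG hM hY1 hYM hMY] at hXY

theorem centralizer_le_coatom (hG : Cfsg.IsMinSimpleOddOrder G) {M Y : Subgroup G}
    (hM : IsCoatom M) (hY1 : Y ≠ ⊥) (hYM : Y ≤ M)
    (hMY : M ≤ Subgroup.normalizer (Y : Set G)) :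
    Subgroup.centralizer (Y : Set G) ≤ M :=
  le_coatom_of_le_normalizer hG hM hY1 hYM hMY (Subgroup.centralizer_le_normalizer _)

theorem exists_coatom_ge {X : Subgroup G} (hX : X ≠ ⊤) : ∃ M : Subgroup G, IsCoatom M ∧ X ≤ M := by
  rcases eq_top_or_exists_le_coatom X with h | ⟨M, hM, hXM⟩
  · exact absurd h hX
  · exact ⟨M, hM, hXM⟩

theorem inUniqueMaximal_of_forall {X M : Subgroup G} (hM : IsCoatom M) (hXM : X ≤ M)
    (h : ∀ H : Subgroup G, IsCoatom H → X ≤ H → H = M) : Cfsg.InUniqueMaximal X :=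
  ⟨M, ⟨hM, hXM⟩, fun H hH => h H hH.1 hH.2⟩

theorem InUniqueMaximal.mono {X Y : Subgroup G} (hX : Cfsg.InUniqueMaximal X) (hXY : X ≤ Y)
    (hY : Y ≠ ⊤) : Cfsg.InUniqueMaximal Y := by
  obtain ⟨M, ⟨hM, hXM⟩, huniq⟩ := hX
  obtain ⟨H, hH, hYH⟩ := exists_coatom_ge hY
  have hHM : H = M := huniq H ⟨hH, hXY.trans hYH⟩
  subst hHM
  exact ⟨H, ⟨hH, hYH⟩, fun H' hH' => huniq H' ⟨hH'.1, hXY.trans hH'.2⟩⟩

/-- two subgroups normalizing each other and of coprime orders commute -/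
theorem le_centralizer_of_coprime {Y₁ Y₂ : Subgroup G}
    (h₁ : Y₁ ≤ Subgroup.normalizer (Y₂ : Set G)) (h₂ : Y₂ ≤ Subgroup.normalizer (Y₁ : Set G))
    (hc : (Nat.card ↥Y₁).Coprime (Nat.card ↥Y₂)) : Y₁ ≤ Subgroup.centralizer (Y₂ : Set G) := by
  intro a ha
  rw [Subgroup.mem_centralizer_iff]
  intro b hb
  have hb' : b ∈ Y₂ := hb
  have m1 : a * b * a⁻¹ * b⁻¹ ∈ Y₂ :=
    Y₂.mul_mem ((Subgroup.mem_normalizer_iff.mp (h₁ ha) b).mp hb') (Y₂.inv_mem hb')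
  have m2 : a * b * a⁻¹ * b⁻¹ ∈ Y₁ := by
    have : b * a⁻¹ * b⁻¹ ∈ Y₁ := (Subgroup.mem_normalizer_iff.mp (h₂ hb') a⁻¹).mp (Y₁.inv_mem ha)
    have e : a * b * a⁻¹ * b⁻¹ = a * (b * a⁻¹ * b⁻¹) := by group
    rw [e]; exact Y₁.mul_mem ha this
  have hbot : Y₁ ⊓ Y₂ = ⊥ := (Subgroup.disjoint_of_coprime_natCard hc).eq_bot
  have h1 : a * b * a⁻¹ * b⁻¹ = 1 := by
    have : a * b * a⁻¹ * b⁻¹ ∈ Y₁ ⊓ Y₂ := ⟨m2, m1⟩
    rw [hbot, Subgroup.mem_bot] at this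
    exact this
  calc b * a = (a * b * a⁻¹ * b⁻¹)⁻¹ * (a * b) := by group
    _ = a * b := by rw [h1, inv_one, one_mul]

theorem eq_bot_of_le_of_coprime {Y₁ Y₂ : Subgroup G} (h : Y₁ ≤ Y₂)
    (hc : (Nat.card ↥Y₁).Coprime (Nat.card ↥Y₂)) : Y₁ = ⊥ := by
  have := (Subgroup.disjoint_of_coprime_natCard hc).eq_bot
  rwa [inf_of_le_left h] at this

end Cfsg.Agent.H2.BGU
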