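import Mathlib
import Cfsg.Agent.H2.BGU.Basic
import Cfsg.Agent.H1.Cores
import Cfsg.Agent.S0065

/-!
# Nilpotent subgroups: the Sylow subgroups `O_q(X)` as subgroups of the ambient group
-/

set_option autoImplicit false
set_option linter.unusedVariables false
set_option linter.unusedSectionVars false
set_option linter.style.haveILetI false

open scoped commutatorElement Pointwise

namespace Cfsg.Agent.H2.BGU

open Cfsg Cfsg.Agent.Lib.Helper4.ThreeStep Cfsg.Agent.Lib.Lead.Conj Cfsg.Agent.Lib.Lead.PiCore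
  Cfsg.Agent.Lib.Helper4.BGTrans

universe u

variable {G : Type u} [Group G] [Finite G]

/-- `O_q(X)` as a subgroup of `G` -/
def Oq (q : ℕ) (X : Subgroup G) : Subgroup G := Cfsg.piCoreOf {q} X

theorem Oq_le (q : ℕ) (X : Subgroup G) : Oq q X ≤ X := piCoreOf_le _ _

theorem le_normalizer_Oq (q : ℕ) (X : Subgroup G) : X ≤ Subgroup.normalizer (Oq q X : Set G) :=
  le_normalizer_piCoreOf _ _

theorem normalizer_le_normalizer_Oq (q : ℕ) (X : Subgroup G) :
    Subgroup.normalizer (X : Set G) ≤ Subgroup.normalizer (Oq q X : Set G) :=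
  normalizer_le_normalizer_piCoreOf _ _

theorem isPGroup_Oq {q : ℕ} (hq : q.Prime) (X : Subgroup G) : IsPGroup q ↥(Oq q X) :=
  isPGroup_of_isPiNat hq (isPiNat_piCoreOf {q} X)

theorem mem_Oq_iff {q : ℕ} {X : Subgroup G} {y : G} :
    y ∈ Oq q X ↔ ∃ hy : y ∈ X, (⟨y, hy⟩ : ↥X) ∈ Cfsg.piCore {q} ↥X := by
  unfold Oq Cfsg.piCoreOf
  constructor
  · rintro ⟨⟨z, hz⟩, hzc, rfl⟩
    exact ⟨hz, hzc⟩
  · rintro ⟨hy, hyc⟩
    exact ⟨⟨y, hy⟩, hyc, rfl⟩

/-- in a nilpotent subgroup `X`, every `q`-subgroup lies in `O_q(X)` -/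
theorem le_Oq_of_isPGroup {q : ℕ} [hq : Fact q.Prime] {X Y : Subgroup G} (hX : Group.IsNilpotent ↥X)
    (hYX : Y ≤ X) (hY : IsPGroup q ↥Y) : Y ≤ Oq q X := by
  have hY' : IsPGroup q ↥(Y.subgroupOf X) := hY.comap_subtype
  obtain ⟨P, hP⟩ := hY'.exists_le_sylow
  haveI := hX
  have hPn : (P : Subgroup ↥X).Normal := inferInstance
  have hPle : (P : Subgroup ↥X) ≤ Cfsg.piCore {q} ↥X :=
    le_piCore hPn (isPiNat_of_isPGroup (G := ↥X) P.isPGroup')
  intro y hy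
  rw [mem_Oq_iff]
  exact ⟨hYX hy, hPle (hP (Subgroup.mem_subgroupOf.mpr hy))⟩

theorem Oq_commute {q r : ℕ} (hq : q.Prime) (hr : r.Prime) (hqr : q ≠ r) (X : Subgroup G) :
    Oq q X ≤ Subgroup.centralizer (Oq r X : Set G) := by
  apply le_centralizer_of_coprime ((Oq_le q X).trans (le_normalizer_Oq r X))
    ((Oq_le r X).trans (le_normalizer_Oq q X))
  haveI := Fact.mk hq
  haveI := Fact.mk hr
  obtain ⟨a, ha⟩ := (isPGroup_Oq hq X).exists_card_eq
  obtain ⟨b, hb⟩ := (isPGroup_Oq hr X).exists_card_eq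
  rw [ha, hb]
  exact Nat.Coprime.pow a b ((Nat.coprime_primes hq hr).mpr hqr)

/-- a nilpotent subgroup is generated by its `O_q` -/
theorem le_of_forall_Oq_le {X Y : Subgroup G} (hX : Group.IsNilpotent ↥X)
    (h : ∀ q : ℕ, q.Prime → Oq q X ≤ Y) : X ≤ Y := by
  have h1 : (⊤ : Subgroup ↥X) ≤ Cfsg.fittingSubgroup ↥X :=
    Cfsg.Agent.H1.le_fittingSubgroup (N := (⊤ : Subgroup ↥X)) inferInstance
      ((Group.isNilpotent_congr (Subgroup.topEquiv : ↥(⊤ : Subgroup ↥X) ≃* ↥X)).mpr hX)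
  rw [Cfsg.Agent.H1.fittingSubgroup_eq_iSup_pCore] at h1
  have h2 : (⨆ q : Nat.Primes, Cfsg.pCore (q : ℕ) ↥X) ≤ Y.subgroupOf X := by
    apply iSup_le
    intro q
    intro y hy
    rw [Subgroup.mem_subgroupOf]
    apply h q q.2
    rw [mem_Oq_iff]
    refine ⟨y.2, ?_⟩
    haveI : Fact (q : ℕ).Prime := ⟨q.2⟩
    have : Cfsg.pCore (q : ℕ) ↥X ≤ Cfsg.piCore {(q : ℕ)} ↥X :=
      le_piCore inferInstance (isPiNat_of_isPGroup (G := ↥X) (Cfsg.Agent.H1.pCore_isPGroup (q : ℕ)))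
    exact this hy
  intro x hx
  have := h2 (h1 (Subgroup.mem_top (⟨x, hx⟩ : ↥X)))
  exact Subgroup.mem_subgroupOf.mp this

theorem Oq_ne_bot_of_dvd {q : ℕ} [hq : Fact q.Prime] {X : Subgroup G} (hX : Group.IsNilpotent ↥X)
    (hd : q ∣ Nat.card ↥X) : Oq q X ≠ ⊥ := by
  obtain ⟨x, hx⟩ := exists_prime_orderOf_dvd_card' (G := ↥X) q hd
  have hz : Subgroup.zpowers (x : G) ≤ Oq q X := by
    apply le_Oq_of_isPGroup hX
    · rw [Subgroup.zpowers_le]; exact x.2
    · apply IsPGroup.of_card (n := 1)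
      rw [Nat.card_zpowers, Subgroup.orderOf_coe, hx, pow_one]
  intro hbot
  rw [hbot] at hz
  have : (x : G) = 1 := by
    have := hz (Subgroup.mem_zpowers (x : G))
    rwa [Subgroup.mem_bot] at this
  have hx1 : x = 1 := Subtype.ext this
  rw [hx1, orderOf_one] at hx
  exact hq.out.one_lt.ne hx

/-- `Z(X) ∩ O_q(X)` for nilpotent `X`, as a subgroup of `G` -/
def Zq (q : ℕ) (X : Subgroup G) : Subgroup G := Oq q X ⊓ Subgroup.centralizer (X : Set G)

theorem Zq_le_Oq (q : ℕ) (X : Subgroup G) : Zq q X ≤ Oq q X := inf_le_left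

theorem Zq_le (q : ℕ) (X : Subgroup G) : Zq q X ≤ X := inf_le_left.trans (Oq_le q X)

theorem Zq_le_centralizer (q : ℕ) (X : Subgroup G) : Zq q X ≤ Subgroup.centralizer (X : Set G) :=
  inf_le_right

theorem isPGroup_Zq {q : ℕ} (hq : q.Prime) (X : Subgroup G) : IsPGroup q ↥(Zq q X) :=
  (isPGroup_Oq hq X).to_le inf_le_left

theorem normalizer_le_normalizer_Zq (q : ℕ) (X : Subgroup G) :
    Subgroup.normalizer (X : Set G) ≤ Subgroup.normalizer (Zq q X : Set G) := by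
  intro g hg
  exact le_normalizer_inf (A := Subgroup.zpowers g)
    (by rw [Subgroup.zpowers_le]; exact normalizer_le_normalizer_Oq q X hg)
    (by rw [Subgroup.zpowers_le]; exact normalizer_le_normalizer_centralizer X hg)
    (Subgroup.mem_zpowers g)

theorem Zq_ne_bot_of_dvd {q : ℕ} [hq : Fact q.Prime] {X : Subgroup G} (hX : Group.IsNilpotent ↥X)
    (hd : q ∣ Nat.card ↥X) : Zq q X ≠ ⊥ := by
  have h1 := Oq_ne_bot_of_dvd hX hd
  haveI := hX
  have hN : Cfsg.piCore {q} ↥X ≠ ⊥ := by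
    intro hbot
    apply h1
    rw [eq_bot_iff]
    intro y hy
    obtain ⟨hyX, hyc⟩ := mem_Oq_iff.mp hy
    rw [hbot, Subgroup.mem_bot] at hyc
    rw [Subgroup.mem_bot]
    exact congrArg Subtype.val hyc
  have h2 := Cfsg.Agent.S0065.result (G := ↥X) (Cfsg.piCore {q} ↥X) hN
  intro hbot
  apply h2
  rw [eq_bot_iff]
  rintro y ⟨hy1, hy2⟩
  rw [Subgroup.mem_bot]
  have hy : (y : G) ∈ Zq q X := by
    refine ⟨mem_Oq_iff.mpr ⟨y.2, hy1⟩, ?_⟩
    show (y : G) ∈ Subgroup.centralizer (X : Set G)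
    rw [Subgroup.mem_centralizer_iff]
    intro x hx
    have := Subgroup.mem_center_iff.mp hy2 ⟨x, hx⟩
    exact congrArg Subtype.val this
  rw [hbot, Subgroup.mem_bot] at hy
  exact Subtype.ext hy

end Cfsg.Agent.H2.BGU
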