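import Mathlib
import Cfsg.Agent.H2.BGU.Nilp
import Cfsg.Agent.H2.Equivariant
import Cfsg.Agent.S0044

/-!
# The Fitting subgroup `F(M)` of a subgroup `M`, as a subgroup of the ambient group
-/

set_option autoImplicit false
set_option linter.unusedVariables false
set_option linter.unusedSectionVars false
set_option linter.style.haveILetI false

open scoped commutatorElement Pointwise

namespace Cfsg.Agent.H2.BGU

open Cfsg Cfsg.Agent.Lib.Helper4.ThreeStep Cfsg.Agent.Lib.Lead.Conj Cfsg.Agent.Lib.Lead.PiCore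
  Cfsg.Agent.Lib.Helper4.BGTrans

universe u

variable {G : Type u} [Group G] [Finite G]

theorem fittingOf_le (M : Subgroup G) : Cfsg.fittingOf M ≤ M := Subgroup.map_subtype_le _

theorem mem_fittingOf_iff {M : Subgroup G} {y : G} :
    y ∈ Cfsg.fittingOf M ↔ ∃ hy : y ∈ M, (⟨y, hy⟩ : ↥M) ∈ Cfsg.fittingSubgroup ↥M := by
  unfold Cfsg.fittingOf
  constructor
  · rintro ⟨⟨z, hz⟩, hzc, rfl⟩
    exact ⟨hz, hzc⟩
  · rintro ⟨hy, hyc⟩
    exact ⟨⟨y, hy⟩, hyc, rfl⟩

theorem normalizer_le_normalizer_fittingOf (M : Subgroup G) :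
    Subgroup.normalizer (M : Set G) ≤ Subgroup.normalizer (Cfsg.fittingOf M : Set G) :=
  Cfsg.Agent.H2.normalizer_le_normalizer_fittingSubgroup M

theorem le_normalizer_fittingOf (M : Subgroup G) :
    M ≤ Subgroup.normalizer (Cfsg.fittingOf M : Set G) :=
  Subgroup.le_normalizer.trans (normalizer_le_normalizer_fittingOf M)

theorem fittingOf_nilpotent (M : Subgroup G) : Group.IsNilpotent ↥(Cfsg.fittingOf M) := by
  haveI : Group.IsNilpotent ↥(Cfsg.fittingSubgroup ↥M) := Cfsg.Agent.H1.fittingSubgroup_nilpotent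
  exact Group.nilpotent_of_mulEquiv
    ((Cfsg.fittingSubgroup ↥M).equivMapOfInjective M.subtype M.subtype_injective)

/-- `C_M(F(M)) ≤ F(M)` for solvable `M` -/
theorem inf_centralizer_fittingOf_le (M : Subgroup G) [Group.IsSolvable ↥M] :
    M ⊓ Subgroup.centralizer (Cfsg.fittingOf M : Set G) ≤ Cfsg.fittingOf M := by
  rintro y ⟨hyM, hyC⟩
  rw [mem_fittingOf_iff]
  refine ⟨hyM, ?_⟩
  apply Cfsg.Agent.S0044.result (G := ↥M)
  rw [Subgroup.mem_centralizer_iff]
  intro x hx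
  have hx' : (x : G) ∈ Cfsg.fittingOf M := mem_fittingOf_iff.mpr ⟨x.2, hx⟩
  exact Subtype.ext (Subgroup.mem_centralizer_iff.mp hyC x hx')

/-- a nilpotent subgroup of `M` normalized by `M` lies in `F(M)` -/
theorem le_fittingOf {M Y : Subgroup G} (hYM : Y ≤ M) (hn : M ≤ Subgroup.normalizer (Y : Set G))
    (hY : Group.IsNilpotent ↥Y) : Y ≤ Cfsg.fittingOf M := by
  have h1 : (Y.subgroupOf M).Normal := Subgroup.normal_subgroupOf_of_le_normalizer hn
  have h2 : Group.IsNilpotent ↥(Y.subgroupOf M) := by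
    haveI := hY
    exact Group.nilpotent_of_mulEquiv (Subgroup.subgroupOfEquivOfLe hYM).symm
  have h3 := Cfsg.Agent.H1.le_fittingSubgroup h1 h2
  intro y hy
  rw [mem_fittingOf_iff]
  exact ⟨hYM hy, h3 (Subgroup.mem_subgroupOf.mpr hy)⟩

theorem fittingOf_le_of_normal {N M : Subgroup G} (hNM : N ≤ M)
    (hn : M ≤ Subgroup.normalizer (N : Set G)) : Cfsg.fittingOf N ≤ Cfsg.fittingOf M :=
  le_fittingOf ((fittingOf_le N).trans hNM) (hn.trans (normalizer_le_normalizer_fittingOf N))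
    (fittingOf_nilpotent N)

theorem eq_bot_of_fittingOf_eq_bot {L : Subgroup G} [Group.IsSolvable ↥L]
    (h : Cfsg.fittingOf L = ⊥) : L = ⊥ := by
  have h1 := inf_centralizer_fittingOf_le L
  rw [h] at h1
  rw [eq_bot_iff]
  refine le_trans ?_ h1
  refine le_inf le_rfl ?_
  intro y _
  rw [Subgroup.mem_centralizer_iff]
  intro x hx
  rw [Subgroup.coe_bot, Set.mem_singleton_iff] at hx
  rw [hx, one_mul, mul_one]

/-- a `q`-subgroup of `M` normalized by `M` lies in `O_q(F(M))` -/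
theorem le_Oq_fittingOf {q : ℕ} [Fact q.Prime] {M Y : Subgroup G} (hYM : Y ≤ M)
    (hn : M ≤ Subgroup.normalizer (Y : Set G)) (hY : IsPGroup q ↥Y) :
    Y ≤ Oq q (Cfsg.fittingOf M) :=
  le_Oq_of_isPGroup (fittingOf_nilpotent M) (le_fittingOf hYM hn hY.isNilpotent) hY

theorem le_normalizer_Oq_fittingOf (q : ℕ) (M : Subgroup G) :
    M ≤ Subgroup.normalizer (Oq q (Cfsg.fittingOf M) : Set G) :=
  (le_normalizer_fittingOf M).trans (normalizer_le_normalizer_Oq q _)

theorem le_normalizer_Zq_fittingOf (q : ℕ) (M : Subgroup G) :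
    M ≤ Subgroup.normalizer (Zq q (Cfsg.fittingOf M) : Set G) :=
  (le_normalizer_fittingOf M).trans (normalizer_le_normalizer_Zq q _)

end Cfsg.Agent.H2.BGU
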