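import Mathlib
import Cfsg.Agent.H2.BGU.Fit
import Cfsg.Agent.Lib.Lead.SolvableBalance

/-!
# `O_{p'}(C_H(Q)) ≤ O_{p'}(H)` for a `p`-subgroup `Q` of a solvable group `H`
-/

set_option autoImplicit false
set_option linter.unusedVariables false
set_option linter.unusedSectionVars false
set_option linter.style.haveILetI false

open scoped commutatorElement Pointwise

namespace Cfsg.Agent.H2.BGU

open Cfsg Cfsg.Agent.Lib.Lead.SolvableBalance

/-- every normal `p'`-subgroup of `C_H(Q)` lies in `O_{p'}(H)` (`H` solvable, `Q` a `p`-subgroup) -/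
theorem balance_pgroup {H : Type*} [Group H] [Finite H] [Group.IsSolvable H] (p : ℕ)
    [hp : Fact p.Prime] (Q₀ : Subgroup H) (hQ₀ : IsPGroup p ↥Q₀) (D : Subgroup H)
    (hDC : D ≤ Subgroup.centralizer (Q₀ : Set H))
    (hDn : Subgroup.centralizer (Q₀ : Set H) ≤ Subgroup.normalizer (D : Set H))
    (hDcard : (Nat.card ↥D).Coprime p) : D ≤ pPrimeCore p H := by
  classical
  set C : Subgroup H := Subgroup.centralizer (Q₀ : Set H) with hC
  set N : Subgroup H := pPrimeCore p H with hN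
  set π : H →* H ⧸ N := QuotientGroup.mk' N with hπ
  have hDnorm : ∀ u ∈ C, ∀ d ∈ D, u * d * u⁻¹ ∈ D := by
    intro u hu d hd
    exact (Subgroup.mem_normalizer_iff.mp (hDn hu) d).mp hd
  -- the quotient
  have hbot : pPrimeCore p (H ⧸ N) = ⊥ := Cfsg.Agent.H2.pPrimeCore_quotient_eq_bot p
  have hcent := cent_pCore_le (H := H ⧸ N) p hbot
  set Pbar : Subgroup (H ⧸ N) := pCore p (H ⧸ N) with hPbar
  have hPbarp : IsPGroup p ↥Pbar := Cfsg.Agent.H1.pCore_isPGroup p
  have hPbarn : Pbar.Normal := inferInstance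
  set Q : Subgroup (H ⧸ N) := D.map π with hQ
  set Pg : Subgroup (H ⧸ N) := Q₀.map π with hPg
  have hQcard : (Nat.card ↥Q).Coprime p :=
    Nat.Coprime.coprime_dvd_left (Subgroup.card_map_dvd D π) hDcard
  have hPgp : IsPGroup p ↥Pg := hQ₀.map π
  have hPQ : Pg ≤ Subgroup.centralizer (Q : Set (H ⧸ N)) := by
    rintro _ ⟨x, hx, rfl⟩
    rw [Subgroup.mem_centralizer_iff]
    rintro _ ⟨d, hd, rfl⟩
    have := Subgroup.mem_centralizer_iff.mp (hDC hd) x hx
    rw [← map_mul, ← map_mul, this]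
  have hnormtop : Subgroup.normalizer (Pbar : Set (H ⧸ N)) = ⊤ :=
    Subgroup.normalizer_eq_top_iff.2 hPbarn
  have hCle : Pbar ⊓ Subgroup.centralizer (Pg : Set (H ⧸ N)) ≤
      Subgroup.centralizer (Q : Set (H ⧸ N)) := by
    rintro ubar ⟨huP, huC⟩
    have hlift := (Cfsg.Agent.S3800.result (p := p) N (Cfsg.Agent.H1.pPrimeCore_coprime p)
      Q₀ hQ₀).2
    have hu' : ubar ∈ Subgroup.centralizer ((Q₀.map (QuotientGroup.mk' N) :
        Subgroup (H ⧸ N)) : Set (H ⧸ N)) := huC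
    rw [hlift] at hu'
    obtain ⟨u, hu, rfl⟩ := hu'
    have huC' : u ∈ C := hu
    rw [Subgroup.mem_centralizer_iff]
    rintro _ ⟨d, hd, rfl⟩
    set w : H ⧸ N := (QuotientGroup.mk' N u) * π d * (QuotientGroup.mk' N u)⁻¹ * (π d)⁻¹ with hw
    have hwQ : w ∈ Q := by
      refine ⟨u * d * u⁻¹ * d⁻¹, D.mul_mem (hDnorm u huC' d hd) (D.inv_mem hd), ?_⟩
      rw [hw]
      simp only [map_mul, map_inv]
      rfl
    have hwP : w ∈ Pbar := by
      have h1 : π d * (QuotientGroup.mk' N u)⁻¹ * (π d)⁻¹ ∈ Pbar :=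
        hPbarn.conj_mem _ (Pbar.inv_mem huP) (π d)
      have e : w = (QuotientGroup.mk' N u) * (π d * (QuotientGroup.mk' N u)⁻¹ * (π d)⁻¹) := by
        rw [hw]; group
      rw [e]
      exact Pbar.mul_mem huP h1
    have hw1 : w = 1 := eq_one_of_coprime hPbarp hQcard hwP hwQ
    have e2 : π d * (QuotientGroup.mk' N u) = w⁻¹ * ((QuotientGroup.mk' N u) * π d) := by
      rw [hw]; group
    rw [e2, hw1, inv_one, one_mul]
  have hQcent : Q ≤ Subgroup.centralizer (Pbar : Set (H ⧸ N)) :=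
    Cfsg.Agent.Lib.Helper7.pq_lemma p Pg Q hPgp hQcard hPQ _ Pbar rfl hPbarp
      (by rw [hnormtop]; exact le_top) (by rw [hnormtop]; exact le_top) hCle
  have hQbot : ∀ q ∈ Q, q = 1 := fun q hq =>
    eq_one_of_coprime hPbarp hQcard (hcent (hQcent hq)) hq
  intro d hd
  have := hQbot (π d) ⟨d, hd, rfl⟩
  exact (QuotientGroup.eq_one_iff d).1 this

end Cfsg.Agent.H2.BGU

namespace Cfsg.Agent.H2.BGU

open Cfsg Cfsg.Agent.Lib.Helper4.ThreeStep Cfsg.Agent.Lib.Lead.Conj Cfsg.Agent.Lib.Lead.PiCore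
  Cfsg.Agent.Lib.Helper4.BGTrans

universe u

variable {G : Type u} [Group G] [Finite G]

/-- `O_{π(n)'}(X)` as a subgroup of `G` -/
def Op' (n : ℕ) (X : Subgroup G) : Subgroup G := Cfsg.piCoreOf (Cfsg.primesNotDvd n) X

theorem Op'_le (n : ℕ) (X : Subgroup G) : Op' n X ≤ X := piCoreOf_le _ _

theorem le_normalizer_Op' (n : ℕ) (X : Subgroup G) :
    X ≤ Subgroup.normalizer (Op' n X : Set G) := le_normalizer_piCoreOf _ _

theorem normalizer_le_normalizer_Op' (n : ℕ) (X : Subgroup G) :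
    Subgroup.normalizer (X : Set G) ≤ Subgroup.normalizer (Op' n X : Set G) :=
  normalizer_le_normalizer_piCoreOf _ _

theorem coprime_card_Op' (n : ℕ) (X : Subgroup G) : n.Coprime (Nat.card ↥(Op' n X)) :=
  (isPiNat_primesNotDvd_iff n _).mp (isPiNat_piCoreOf _ X)

theorem le_Op' {n : ℕ} {X Y : Subgroup G} (hYX : Y ≤ X)
    (hn : X ≤ Subgroup.normalizer (Y : Set G)) (hc : n.Coprime (Nat.card ↥Y)) : Y ≤ Op' n X :=
  le_piCoreOf hYX hn ((isPiNat_primesNotDvd_iff n _).mpr hc)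

theorem Op'_prime_eq {p : ℕ} (hp : p.Prime) (X : Subgroup G) :
    Op' p X = (Cfsg.pPrimeCore p ↥X).map X.subtype := by
  unfold Op' Cfsg.piCoreOf
  rw [pPrimeCore_eq_piCore hp]
  congr 1
  apply piCore_congr
  intro r hr
  simp only [Cfsg.primesNotDvd, Set.mem_ofPred_eq]
  constructor
  · rintro ⟨-, h⟩ rfl
    exact h dvd_rfl
  · intro h
    exact ⟨hr, fun hd => h ((Nat.prime_dvd_prime_iff_eq hr hp).mp hd)⟩

theorem Op'_eq_bot_iff {p : ℕ} (hp : p.Prime) (X : Subgroup G) :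
    Op' p X = ⊥ ↔ Cfsg.pPrimeCore p ↥X = ⊥ := by
  rw [Op'_prime_eq hp]
  exact Subgroup.map_eq_bot_iff_of_injective _ X.subtype_injective

/-- **balance**: a normal `p'`-subgroup of `C_X(Q)` lies in `O_{p'}(X)` -/
theorem balance_sub (X : Subgroup G) [Group.IsSolvable ↥X] (p : ℕ) [hp : Fact p.Prime]
    {Q D : Subgroup G} (hQX : Q ≤ X) (hQ : IsPGroup p ↥Q) (hDX : D ≤ X)
    (hDC : D ≤ Subgroup.centralizer (Q : Set G))
    (hDn : X ⊓ Subgroup.centralizer (Q : Set G) ≤ Subgroup.normalizer (D : Set G))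
    (hDcard : p.Coprime (Nat.card ↥D)) : D ≤ Op' p X := by
  rw [Op'_prime_eq hp.out]
  have h := balance_pgroup (H := ↥X) p (Q.subgroupOf X) hQ.comap_subtype (D.subgroupOf X) ?_ ?_ ?_
  · intro d hd
    exact ⟨⟨d, hDX hd⟩, h (Subgroup.mem_subgroupOf.mpr hd), rfl⟩
  · intro d hd
    rw [Subgroup.mem_centralizer_iff]
    intro x hx
    exact Subtype.ext
      (Subgroup.mem_centralizer_iff.mp (hDC (Subgroup.mem_subgroupOf.mp hd)) x
        (Subgroup.mem_subgroupOf.mp hx))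
  · intro c hc
    have hcC : (c : G) ∈ Subgroup.centralizer (Q : Set G) := by
      rw [Subgroup.mem_centralizer_iff]
      intro x hx
      have := Subgroup.mem_centralizer_iff.mp hc ⟨x, hQX hx⟩ (Subgroup.mem_subgroupOf.mpr hx)
      exact congrArg Subtype.val this
    have hcN := hDn ⟨c.2, hcC⟩
    rw [Subgroup.mem_normalizer_iff]
    intro d
    rw [Subgroup.mem_subgroupOf, Subgroup.mem_subgroupOf]
    exact Subgroup.mem_normalizer_iff.mp hcN (d : G)
  · rw [Nat.card_congr (Subgroup.subgroupOfEquivOfLe hDX).toEquiv]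
    exact hDcard.symm

end Cfsg.Agent.H2.BGU
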