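import Mathlib
import Cfsg.Agent.H2.BGU.Balance
import Cfsg.Agent.S0027
import Cfsg.Agent.S0026

/-!
# Coprime action: an operator group centralizing `F(L)` centralizes the solvable group `L`
-/

set_option autoImplicit false
set_option linter.unusedVariables false
set_option linter.unusedSectionVars false
set_option linter.style.haveILetI false

open scoped commutatorElement Pointwise

namespace Cfsg.Agent.H2.BGU

open Cfsg Cfsg.Agent.Lib.Helper4.ThreeStep Cfsg.Agent.Lib.Lead.Conj Cfsg.Agent.Lib.Lead.PiCore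
  Cfsg.Agent.Lib.Helper4.BGTrans

universe u

variable {G : Type u} [Group G] [Finite G]

theorem le_centralizer_of_centralizer_fittingOf {A L : Subgroup G} [Group.IsSolvable ↥L]
    (hAL : A ≤ Subgroup.normalizer (L : Set G)) (hcop : (Nat.card ↥A).Coprime (Nat.card ↥L))
    (hAF : A ≤ Subgroup.centralizer (Cfsg.fittingOf L : Set G)) :
    A ≤ Subgroup.centralizer (L : Set G) := by
  set F := Cfsg.fittingOf L with hF
  have hFL : F ≤ L := fittingOf_le L
  have hLF : L ≤ Subgroup.normalizer (F : Set G) := le_normalizer_fittingOf L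
  -- `[L, A] ≤ F`
  have h1 : ⁅L, A⁆ ≤ F := by
    rw [Subgroup.commutator_le]
    intro l hl a ha
    apply inf_centralizer_fittingOf_le L
    refine ⟨?_, ?_⟩
    · have : a * l⁻¹ * a⁻¹ ∈ L :=
        (Subgroup.mem_normalizer_iff.mp (hAL ha) l⁻¹).mp (L.inv_mem hl)
      have e : ⁅l, a⁆ = l * (a * l⁻¹ * a⁻¹) := by rw [commutatorElement_def]; group
      rw [e]; exact L.mul_mem hl this
    · show ⁅l, a⁆ ∈ Subgroup.centralizer (F : Set G)
      rw [Subgroup.mem_centralizer_iff]
      intro f hf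
      have hf' : f ∈ F := hf
      -- `l⁻¹ f l ∈ F`
      have h2 : l⁻¹ * f * l ∈ F := by
        have := (Subgroup.mem_normalizer_iff.mp (hLF (L.inv_mem hl)) f).mp hf'
        rwa [inv_inv] at this
      have ha1 : f * a = a * f := Subgroup.mem_centralizer_iff.mp (hAF ha) f hf'
      have ha2 : (l⁻¹ * f * l) * a = a * (l⁻¹ * f * l) :=
        Subgroup.mem_centralizer_iff.mp (hAF ha) _ h2
      have ha1' : f * a⁻¹ = a⁻¹ * f := by
        calc f * a⁻¹ = a⁻¹ * (a * f) * a⁻¹ := by group
          _ = a⁻¹ * (f * a) * a⁻¹ := by rw [ha1]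
          _ = a⁻¹ * f := by group
      rw [commutatorElement_def]
      calc f * (l * a * l⁻¹ * a⁻¹) = l * ((l⁻¹ * f * l) * a) * l⁻¹ * a⁻¹ := by group
        _ = l * (a * (l⁻¹ * f * l)) * l⁻¹ * a⁻¹ := by rw [ha2]
        _ = l * a * l⁻¹ * (f * a⁻¹) := by group
        _ = l * a * l⁻¹ * (a⁻¹ * f) := by rw [ha1']
        _ = l * a * l⁻¹ * a⁻¹ * f := by group
  have h2 : ⁅⁅L, A⁆, A⁆ = ⊥ := by
    rw [eq_bot_iff]
    refine (Subgroup.commutator_mono h1 le_rfl).trans ?_
    rw [Subgroup.commutator_comm, le_bot_iff, Subgroup.commutator_eq_bot_iff_le_centralizer]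
    exact hAF
  have h3 := Cfsg.Agent.S0027.result A L hAL hcop (Or.inr inferInstance)
  rw [h2] at h3
  have h4 : ⁅A, L⁆ = ⊥ := by rw [Subgroup.commutator_comm]; exact h3.symm
  exact Subgroup.commutator_eq_bot_iff_le_centralizer.mp h4

end Cfsg.Agent.H2.BGU
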