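import Mathlib
import Cfsg.Agent.H2.BGU.CopFit
import Cfsg.Agent.S1442

/-!
# BG Theorem 8.1(a), part 1: the subgroup `A = C_F(A₀)`
-/

set_option autoImplicit false
set_option linter.unusedVariables false
set_option linter.unusedSectionVars false
set_option linter.style.haveILetI false

open scoped commutatorElement Pointwise

namespace Cfsg.Agent.H2.BGU

open Cfsg Cfsg.Agent.Lib.Helper4.ThreeStep Cfsg.Agent.Lib.Lead.Conj Cfsg.Agent.Lib.Lead.PiCore
  Cfsg.Agent.Lib.Helper4.BGTrans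

universe u

variable {G : Type u} [Group G] [Finite G]

theorem isNilpotent_of_le {X Y : Subgroup G} (hX : Group.IsNilpotent ↥X) (hYX : Y ≤ X) :
    Group.IsNilpotent ↥Y := by
  haveI := hX
  exact Group.nilpotent_of_mulEquiv (Subgroup.subgroupOfEquivOfLe hYX)

theorem dvd_card_of_ne_bot_of_isPGroup {q : ℕ} [hq : Fact q.Prime] {Y : Subgroup G}
    (hY : IsPGroup q ↥Y) (hne : Y ≠ ⊥) : q ∣ Nat.card ↥Y := by
  obtain ⟨k, hk⟩ := hY.exists_card_eq
  have hk0 : k ≠ 0 := by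
    rintro rfl
    rw [pow_zero] at hk
    exact hne (Subgroup.card_eq_one.mp hk)
  rw [hk]
  exact dvd_pow_self q hk0

/-- standing hypotheses of BG Theorem 8.1(a) -/
structure H81 (M : Subgroup G) (p : ℕ) (A₀ : Subgroup G) : Prop where
  hG : Cfsg.IsMinSimpleOddOrder G
  hM : IsCoatom M
  hp : p.Prime
  hA₀F : A₀ ≤ Cfsg.fittingOf M
  hA₀e : Cfsg.IsElementaryAbelian p A₀
  hA₀3 : p ^ 3 ≤ Nat.card ↥A₀

/-- `A = C_F(A₀)` -/
def AA (M A₀ : Subgroup G) : Subgroup G :=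
  Cfsg.fittingOf M ⊓ Subgroup.centralizer (A₀ : Set G)

namespace H81

variable {M : Subgroup G} {p : ℕ} {A₀ : Subgroup G}

theorem AA_le_F : AA M A₀ ≤ Cfsg.fittingOf M := inf_le_left

theorem AA_le_M : AA M A₀ ≤ M := inf_le_left.trans (fittingOf_le M)

theorem A₀_comm (h : H81 M p A₀) : A₀ ≤ Subgroup.centralizer (A₀ : Set G) := by
  intro x hx
  rw [Subgroup.mem_centralizer_iff]
  intro y hy
  have h1 := h.hA₀e.1.is_comm.comm (⟨y, hy⟩ : ↥A₀) ⟨x, hx⟩
  exact congrArg Subtype.val h1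

theorem A₀_le_AA (h : H81 M p A₀) : A₀ ≤ AA M A₀ := le_inf h.hA₀F h.A₀_comm

theorem A₀_le_centralizer_AA (h : H81 M p A₀) : A₀ ≤ Subgroup.centralizer (AA M A₀ : Set G) := by
  rw [Subgroup.le_centralizer_iff]
  exact inf_le_right

theorem AA_nilpotent (h : H81 M p A₀) : Group.IsNilpotent ↥(AA M A₀) :=
  isNilpotent_of_le (fittingOf_nilpotent M) AA_le_F

theorem A₀_pgroup (h : H81 M p A₀) : IsPGroup p ↥A₀ := isPGroup_of_elementary h.hA₀e

theorem A₀_ne_bot (h : H81 M p A₀) : A₀ ≠ ⊥ := by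
  intro hbot
  have h1 := h.hA₀3
  rw [hbot, Subgroup.card_bot] at h1
  have : 1 < p ^ 3 := Nat.one_lt_pow (by norm_num) h.hp.one_lt
  omega

theorem AA_ne_bot (h : H81 M p A₀) : AA M A₀ ≠ ⊥ := by
  intro hbot
  apply h.A₀_ne_bot
  rw [eq_bot_iff, ← hbot]
  exact h.A₀_le_AA

theorem AA_ne_top (h : H81 M p A₀) : AA M A₀ ≠ ⊤ := ne_top_of_le_coatom h.hM AA_le_M

theorem solvM (h : H81 M p A₀) : Group.IsSolvable ↥M := solvable_of_le_coatom h.hG h.hM le_rfl

theorem p_dvd_F (h : H81 M p A₀) : p ∣ Nat.card ↥(Cfsg.fittingOf M) := by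
  haveI := Fact.mk h.hp
  exact (dvd_card_of_ne_bot_of_isPGroup h.A₀_pgroup h.A₀_ne_bot).trans
    (Subgroup.card_dvd_of_le h.hA₀F)

theorem Zq_le_AA (h : H81 M p A₀) (q : ℕ) : Zq q (Cfsg.fittingOf M) ≤ AA M A₀ := by
  refine le_inf (Zq_le q _) ?_
  intro z hz
  have := Zq_le_centralizer q _ hz
  rw [Subgroup.mem_centralizer_iff] at this ⊢
  intro a ha
  exact this a (h.hA₀F ha)

theorem dvd_card_AA_iff (h : H81 M p A₀) {q : ℕ} (hq : q.Prime) :
    q ∣ Nat.card ↥(AA M A₀) ↔ q ∣ Nat.card ↥(Cfsg.fittingOf M) := by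
  haveI := Fact.mk hq
  constructor
  · intro hd
    exact hd.trans (Subgroup.card_dvd_of_le AA_le_F)
  · intro hd
    have h1 := Zq_ne_bot_of_dvd (fittingOf_nilpotent M) hd
    exact (dvd_card_of_ne_bot_of_isPGroup (isPGroup_Zq hq _) h1).trans
      (Subgroup.card_dvd_of_le (h.Zq_le_AA q))

theorem normalizer_Zq (h : H81 M p A₀) {q : ℕ} (hq : q.Prime)
    (hd : q ∣ Nat.card ↥(Cfsg.fittingOf M)) :
    Subgroup.normalizer (Zq q (Cfsg.fittingOf M) : Set G) = M := by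
  haveI := Fact.mk hq
  exact normalizer_eq_coatom h.hG h.hM (Zq_ne_bot_of_dvd (fittingOf_nilpotent M) hd)
    ((Zq_le q _).trans (fittingOf_le M)) (le_normalizer_Zq_fittingOf q M)

theorem Zq_le_Oq_AA (h : H81 M p A₀) {q : ℕ} (hq : q.Prime) :
    Zq q (Cfsg.fittingOf M) ≤ Oq q (AA M A₀) := by
  haveI := Fact.mk hq
  exact le_Oq_of_isPGroup h.AA_nilpotent (h.Zq_le_AA q) (isPGroup_Zq hq _)

theorem centralizer_Oq_AA_le (h : H81 M p A₀) {q : ℕ} (hq : q.Prime)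
    (hd : q ∣ Nat.card ↥(Cfsg.fittingOf M)) :
    Subgroup.centralizer (Oq q (AA M A₀) : Set G) ≤ M := by
  have h1 : Subgroup.centralizer (Oq q (AA M A₀) : Set G) ≤
      Subgroup.centralizer (Zq q (Cfsg.fittingOf M) : Set G) :=
    Subgroup.centralizer_le (h.Zq_le_Oq_AA hq)
  refine h1.trans ((Subgroup.centralizer_le_normalizer _).trans ?_)
  rw [h.normalizer_Zq hq hd]

theorem centralizer_AA_le (h : H81 M p A₀) : Subgroup.centralizer (AA M A₀ : Set G) ≤ M :=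
  (Subgroup.centralizer_le (Oq_le p _)).trans (h.centralizer_Oq_AA_le h.hp h.p_dvd_F)

/-- `C_G(A)` is a `π(F)`-group -/
theorem centralizer_AA_pi (h : H81 M p A₀) {r : ℕ} (hr : r.Prime)
    (hd : r ∣ Nat.card ↥(Subgroup.centralizer (AA M A₀ : Set G))) :
    r ∣ Nat.card ↥(Cfsg.fittingOf M) := by
  haveI := Fact.mk hr
  haveI := h.solvM
  by_contra hnd
  obtain ⟨x, hx⟩ := exists_prime_orderOf_dvd_card' (G := ↥(Subgroup.centralizer (AA M A₀ : Set G))) r hd
  have hxo : orderOf (x : G) = r := by rw [Subgroup.orderOf_coe]; exact hx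
  have hxM : (x : G) ∈ M := h.centralizer_AA_le x.2
  set F := Cfsg.fittingOf M with hF
  have hzA : Subgroup.zpowers (x : G) ≤ Subgroup.centralizer (AA M A₀ : Set G) := by
    rw [Subgroup.zpowers_le]; exact x.2
  have hAz : AA M A₀ ≤ Subgroup.centralizer ((Subgroup.zpowers (x : G) : Subgroup G) : Set G) :=
    Subgroup.le_centralizer_iff.mp hzA
  have hcent := Cfsg.Agent.S1442.result F (Subgroup.zpowers (x : G)) (fittingOf_nilpotent M)
    (by
      rw [Subgroup.zpowers_le]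
      exact le_normalizer_fittingOf M hxM)
    (by
      rw [Nat.card_zpowers, hxo]
      exact (Nat.Prime.coprime_iff_not_dvd hr).mpr hnd)
    (by
      have hAC : AA M A₀ ≤ F ⊓ Subgroup.centralizer ((Subgroup.zpowers (x : G) : Subgroup G) : Set G) :=
        le_inf AA_le_F hAz
      refine le_trans ?_ hAC
      refine le_inf inf_le_left ?_
      refine inf_le_right.trans ?_
      refine (Subgroup.centralizer_le hAC).trans ?_
      exact Subgroup.centralizer_le h.A₀_le_AA)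
  have hxF : (x : G) ∈ F := by
    apply inf_centralizer_fittingOf_le M
    exact ⟨hxM, hcent (Subgroup.mem_zpowers _)⟩
  apply hnd
  rw [← hxo]
  have := orderOf_dvd_natCard (⟨(x : G), hxF⟩ : ↥F)
  rwa [Subgroup.orderOf_mk] at this

theorem A₀_le_Oq_F (h : H81 M p A₀) : A₀ ≤ Oq p (Cfsg.fittingOf M) := by
  haveI := Fact.mk h.hp
  exact le_Oq_of_isPGroup (fittingOf_nilpotent M) h.hA₀F h.A₀_pgroup

theorem Oq_F_le_AA (h : H81 M p A₀) {q : ℕ} (hq : q.Prime) (hqp : q ≠ p) :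
    Oq q (Cfsg.fittingOf M) ≤ AA M A₀ := by
  refine le_inf (Oq_le q _) ?_
  exact (Oq_commute hq h.hp hqp _).trans (Subgroup.centralizer_le h.A₀_le_Oq_F)

theorem Oq_F_le_Oq_AA (h : H81 M p A₀) {q : ℕ} (hq : q.Prime) (hqp : q ≠ p) :
    Oq q (Cfsg.fittingOf M) ≤ Oq q (AA M A₀) := by
  haveI := Fact.mk hq
  exact le_Oq_of_isPGroup h.AA_nilpotent (h.Oq_F_le_AA hq hqp) (isPGroup_Oq hq _)

theorem Oq_AA_le_Oq_F (h : H81 M p A₀) {q : ℕ} (hq : q.Prime) :
    Oq q (AA M A₀) ≤ Oq q (Cfsg.fittingOf M) := by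
  haveI := Fact.mk hq
  exact le_Oq_of_isPGroup (fittingOf_nilpotent M) ((Oq_le q _).trans AA_le_F) (isPGroup_Oq hq _)

end H81

end Cfsg.Agent.H2.BGU
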