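import Mathlib
import Cfsg.Agent.H2.BGU.T81a1

/-!
# BG Theorem 8.1(a), part 2: `A = C_F(A₀)` satisfies the transitivity hypothesis
-/

set_option autoImplicit false
set_option linter.unusedVariables false
set_option linter.unusedSectionVars false
set_option linter.style.haveILetI false

open scoped commutatorElement Pointwise

namespace Cfsg.Agent.H2.BGU

open Cfsg Cfsg.Agent.Lib.Helper4.ThreeStep Cfsg.Agent.Lib.Lead.Conj Cfsg.Agent.Lib.Lead.PiCore
  Cfsg.Agent.Lib.Helper4.BGTrans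

universe u

variable {G : Type u} [Group G] [Finite G]

theorem le_normalizer_iInf {ι : Sort*} {A : Subgroup G} (f : ι → Subgroup G)
    (h : ∀ i, A ≤ Subgroup.normalizer (f i : Set G)) :
    A ≤ Subgroup.normalizer ((⨅ i, f i : Subgroup G) : Set G) := by
  intro a ha
  apply mem_normalizer_of_conj_mem
  intro x hx
  rw [Subgroup.mem_iInf] at hx ⊢
  intro i
  exact (Subgroup.mem_normalizer_iff.mp (h i ha) x).mp (hx i)

theorem exists_prime_ne_dvd_of_not_isPGroup {p : ℕ} (hp : p.Prime) {F : Subgroup G}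
    (hnp : ¬ IsPGroup p ↥F) : ∃ r : ℕ, r.Prime ∧ r ≠ p ∧ r ∣ Nat.card ↥F := by
  by_contra hcon
  push Not at hcon
  apply hnp
  apply isPGroup_of_isPiNat hp
  intro r hr hrd
  by_contra hne
  exact hcon r hr hne hrd

theorem conj_mem_of_le_normalizer {X Y : Subgroup G} (h : X ≤ Subgroup.normalizer (Y : Set G))
    {x y : G} (hx : x ∈ X) (hy : y ∈ Y) : x * y * x⁻¹ ∈ Y :=
  (Subgroup.mem_normalizer_iff.mp (h hx) y).mp hy

namespace H81

variable {M : Subgroup G} {p : ℕ} {A₀ : Subgroup G}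

theorem exists_other_prime (h : H81 M p A₀) (hnp : ¬ IsPGroup p ↥(Cfsg.fittingOf M)) (q : ℕ) :
    ∃ r : ℕ, r.Prime ∧ r ≠ q ∧ r ∣ Nat.card ↥(Cfsg.fittingOf M) := by
  by_cases hqp : q = p
  · subst hqp
    exact exists_prime_ne_dvd_of_not_isPGroup h.hp hnp
  · exact ⟨p, h.hp, fun e => hqp e.symm, h.p_dvd_F⟩

theorem Oq_F_le_Op'_M (h : H81 M p A₀) {q r : ℕ} (hq : q.Prime) (hr : r.Prime) (hrq : r ≠ q) :
    Oq r (Cfsg.fittingOf M) ≤ Op' q M := by
  haveI := Fact.mk hr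
  apply le_Op' ((Oq_le r _).trans (fittingOf_le M)) (le_normalizer_Oq_fittingOf r M)
  obtain ⟨k, hk⟩ := (isPGroup_Oq hr (Cfsg.fittingOf M)).exists_card_eq
  rw [hk]
  exact Nat.Coprime.pow_right k ((Nat.coprime_primes hq hr).mpr (Ne.symm hrq))

/-- **Step 3a**: `A_r ≤ O_{q'}(X)` for `r ≠ q`, `q ∈ π(F)`, `X ≥ A` proper -/
theorem Oq_AA_le_Op' (h : H81 M p A₀) {X : Subgroup G} (hX : X ≠ ⊤) (hAX : AA M A₀ ≤ X)
    {q r : ℕ} (hq : q.Prime) (hqF : q ∣ Nat.card ↥(Cfsg.fittingOf M)) (hr : r.Prime)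
    (hrq : r ≠ q) : Oq r (AA M A₀) ≤ Op' q X := by
  haveI := Fact.mk hq
  haveI : Group.IsSolvable ↥X := solvable_of_ne_top h.hG hX
  set Q := Zq q (Cfsg.fittingOf M) with hQ
  set C := X ⊓ Subgroup.centralizer (Q : Set G) with hC
  set D := Op' q M ⊓ C with hD
  have hCM : C ≤ M := by
    refine inf_le_right.trans ((Subgroup.centralizer_le_normalizer _).trans ?_)
    rw [h.normalizer_Zq hq hqF]
  have hDle : D ≤ Op' q X := by
    apply balance_sub X q ((h.Zq_le_AA q).trans hAX) (isPGroup_Zq hq _)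
      (inf_le_right.trans inf_le_left) (inf_le_right.trans inf_le_right)
    · exact le_normalizer_inf (hCM.trans (le_normalizer_Op' q M)) Subgroup.le_normalizer
    · exact Nat.Coprime.coprime_dvd_right (Subgroup.card_dvd_of_le inf_le_left)
        (coprime_card_Op' q M)
  refine le_trans ?_ hDle
  refine le_inf ((h.Oq_AA_le_Oq_F hr).trans (h.Oq_F_le_Op'_M hq hr hrq)) (le_inf ?_ ?_)
  · exact (Oq_le r _).trans hAX
  · have h1 : Q ≤ Subgroup.centralizer ((Cfsg.fittingOf M : Subgroup G) : Set G) :=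
      Zq_le_centralizer q _
    have h2 : Cfsg.fittingOf M ≤ Subgroup.centralizer (Q : Set G) :=
      Subgroup.le_centralizer_iff.mp h1
    exact ((Oq_le r _).trans AA_le_F).trans h2

theorem coprime_F_of_inv (h : H81 M p A₀) {X Y : Subgroup G}
    (hY : Y ∈ Cfsg.invSubgroups X (AA M A₀) (Cfsg.primesNotDvd (Nat.card ↥(AA M A₀)))) :
    (Nat.card ↥(Cfsg.fittingOf M)).Coprime (Nat.card ↥Y) := by
  apply Nat.coprime_of_dvd
  intro k hk hkF hkY
  exact (hY.2.1 k hk hkY).2 ((h.dvd_card_AA_iff hk).mpr hkF)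

theorem coprime_AA_of_inv (h : H81 M p A₀) {X Y : Subgroup G}
    (hY : Y ∈ Cfsg.invSubgroups X (AA M A₀) (Cfsg.primesNotDvd (Nat.card ↥(AA M A₀)))) :
    (Nat.card ↥(AA M A₀)).Coprime (Nat.card ↥Y) :=
  Nat.Coprime.coprime_dvd_left (Subgroup.card_dvd_of_le AA_le_F) (h.coprime_F_of_inv hY)

/-- **Step 3b**: `C_Y(A_r) = 1` -/
theorem inv_inf_centralizer_eq_bot (h : H81 M p A₀) {X Y : Subgroup G}
    (hY : Y ∈ Cfsg.invSubgroups X (AA M A₀) (Cfsg.primesNotDvd (Nat.card ↥(AA M A₀))))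
    {r : ℕ} (hr : r.Prime) (hrF : r ∣ Nat.card ↥(Cfsg.fittingOf M)) :
    Y ⊓ Subgroup.centralizer (Oq r (AA M A₀) : Set G) = ⊥ := by
  set Y₁ := Y ⊓ Subgroup.centralizer (Oq r (AA M A₀) : Set G) with hY₁
  have hY₁M : Y₁ ≤ M := inf_le_right.trans (h.centralizer_Oq_AA_le hr hrF)
  have hcop := h.coprime_F_of_inv hY
  have hbot : Cfsg.fittingOf M ⊓ Y = ⊥ := (Subgroup.disjoint_of_coprime_natCard hcop).eq_bot
  have hAY : AA M A₀ ≤ Subgroup.normalizer (Y : Set G) := hY.2.2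
  have hcent : Y₁ ≤ Subgroup.centralizer (AA M A₀ : Set G) := by
    intro y hy
    rw [Subgroup.mem_centralizer_iff]
    intro a ha
    have ha' : a ∈ AA M A₀ := ha
    have m1 : y * a * y⁻¹ * a⁻¹ ∈ Cfsg.fittingOf M := by
      have := conj_mem_of_le_normalizer (le_normalizer_fittingOf M) (hY₁M hy) (AA_le_F ha')
      exact Subgroup.mul_mem _ this (Subgroup.inv_mem _ (AA_le_F ha'))
    have m2 : y * a * y⁻¹ * a⁻¹ ∈ Y := by
      have := conj_mem_of_le_normalizer hAY ha' (Y.inv_mem hy.1)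
      have e : y * a * y⁻¹ * a⁻¹ = y * (a * y⁻¹ * a⁻¹) := by group
      rw [e]
      exact Y.mul_mem hy.1 this
    have h1 : y * a * y⁻¹ * a⁻¹ = 1 := by
      have : y * a * y⁻¹ * a⁻¹ ∈ Cfsg.fittingOf M ⊓ Y := ⟨m1, m2⟩
      rw [hbot, Subgroup.mem_bot] at this
      exact this
    calc a * y = (y * a * y⁻¹ * a⁻¹)⁻¹ * (y * a) := by group
      _ = y * a := by rw [h1, inv_one, one_mul]
  -- now `Y₁` is both a `π`-group and a `π'`-group
  by_contra hne
  have hcard : Nat.card ↥Y₁ ≠ 1 := fun h1 => hne (Subgroup.card_eq_one.mp h1)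
  obtain ⟨k, hk, hkd⟩ := Nat.exists_prime_and_dvd hcard
  have hkF : k ∣ Nat.card ↥(Cfsg.fittingOf M) :=
    h.centralizer_AA_pi hk (hkd.trans (Subgroup.card_dvd_of_le hcent))
  have hkY : k ∣ Nat.card ↥Y := hkd.trans (Subgroup.card_dvd_of_le inf_le_left)
  have := Nat.dvd_gcd hkF hkY
  rw [hcop.gcd_eq_one] at this
  exact hk.one_lt.ne' (Nat.dvd_one.mp this)

/-- **Step 3c**: an `A`-invariant `π'`-subgroup of `X` lies in `O_{q'}(X)` -/
theorem inv_le_Op' (h : H81 M p A₀) (hnp : ¬ IsPGroup p ↥(Cfsg.fittingOf M)) {X : Subgroup G}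
    (hX : X ≠ ⊤) (hAX : AA M A₀ ≤ X) {Y : Subgroup G}
    (hY : Y ∈ Cfsg.invSubgroups X (AA M A₀) (Cfsg.primesNotDvd (Nat.card ↥(AA M A₀))))
    {q : ℕ} (hq : q.Prime) (hqF : q ∣ Nat.card ↥(Cfsg.fittingOf M)) : Y ≤ Op' q X := by
  obtain ⟨r, hr, hrq, hrF⟩ := h.exists_other_prime hnp q
  haveI := Fact.mk hr
  set B := Oq r (AA M A₀) with hB
  have hBY : B ≤ Subgroup.normalizer (Y : Set G) := (Oq_le r _).trans hY.2.2
  have hcop : (Nat.card ↥B).Coprime (Nat.card ↥Y) :=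
    Nat.Coprime.coprime_dvd_left (Subgroup.card_dvd_of_le (Oq_le r _)) (h.coprime_AA_of_inv hY)
  have hBs : Group.IsSolvable ↥B := by
    haveI := (isPGroup_Oq hr (AA M A₀)).isNilpotent
    infer_instance
  have h26 := Cfsg.Agent.S0026.result B Y hBY hcop (Or.inl hBs)
  rw [h.inv_inf_centralizer_eq_bot hY hr hrF, sup_bot_eq] at h26
  rw [← h26, Subgroup.commutator_le]
  intro y hy b hb
  have hb' : b ∈ Op' q X := h.Oq_AA_le_Op' hX hAX hq hqF hr hrq hb
  have := conj_mem_of_le_normalizer (le_normalizer_Op' q X) (hY.1 hy) hb'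
  rw [commutatorElement_def]
  exact Subgroup.mul_mem _ this (Subgroup.inv_mem _ hb')

/-- **Step 3**: `A` satisfies the transitivity hypothesis -/
theorem transHyp (h : H81 M p A₀) (hnp : ¬ IsPGroup p ↥(Cfsg.fittingOf M)) :
    Cfsg.TransitivityHypothesis (AA M A₀) := by
  refine ⟨h.AA_ne_bot, h.AA_ne_top, fun X hX hAX => le_antisymm ?_ ?_⟩
  · apply sSup_le
    intro Y hY
    set ι := {q : ℕ // q.Prime ∧ q ∣ Nat.card ↥(Cfsg.fittingOf M)} with hι
    set T : Subgroup G := ⨅ q : ι, Op' (q : ℕ) X with hT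
    have hYT : Y ≤ T := le_iInf fun q => h.inv_le_Op' hnp hX hAX hY q.2.1 q.2.2
    refine hYT.trans ?_
    apply le_piCoreOf
    · exact (iInf_le (fun q : ι => Op' (q : ℕ) X) ⟨p, h.hp, h.p_dvd_F⟩).trans (Op'_le p X)
    · exact le_normalizer_iInf _ fun q => le_normalizer_Op' (q : ℕ) X
    · intro k hk hkd
      refine ⟨hk, fun hkA => ?_⟩
      have hkF := (h.dvd_card_AA_iff hk).mp hkA
      have h1 : T ≤ Op' k X := iInf_le (fun q : ι => Op' (q : ℕ) X) ⟨k, hk, hkF⟩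
      have h2 := hkd.trans (Subgroup.card_dvd_of_le h1)
      have h3 := coprime_card_Op' k X
      have := Nat.dvd_gcd dvd_rfl h2
      rw [h3.gcd_eq_one] at this
      exact hk.one_lt.ne' (Nat.dvd_one.mp this)
  · apply le_sSup
    exact ⟨piCoreOf_le _ _, isPiNat_piCoreOf _ _, hAX.trans (le_normalizer_piCoreOf _ _)⟩

end H81

end Cfsg.Agent.H2.BGU
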