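import Mathlib
import Cfsg.Agent.H2.BGU.T81a2
import Cfsg.Agent.S1393
import Cfsg.Agent.S1395
import Cfsg.Agent.S0064

/-!
# BG Theorem 8.1(a), part 3: every `A`-invariant `π(F)'`-subgroup of `G` is trivial
-/

set_option autoImplicit false
set_option linter.unusedVariables false
set_option linter.unusedSectionVars false
set_option linter.style.haveILetI false

open scoped commutatorElement Pointwise

namespace Cfsg.Agent.H2.BGU

open Cfsg Cfsg.Agent.Lib.Helper4.ThreeStep Cfsg.Agent.Lib.Lead.Conj Cfsg.Agent.Lib.Lead.PiCore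
  Cfsg.Agent.Lib.Helper4.BGTrans

universe u

variable {G : Type u} [Group G] [Finite G]

theorem normalizer_eq_coatom' (hG : Cfsg.IsMinSimpleOddOrder G) {M Y : Subgroup G} (hM : IsCoatom M)
    (hY1 : Y ≠ ⊥) (hYs : Group.IsSolvable ↥Y) (hMY : M ≤ Subgroup.normalizer (Y : Set G)) :
    Subgroup.normalizer (Y : Set G) = M := by
  have hN : Subgroup.normalizer (Y : Set G) ≠ ⊤ := normalizer_ne_top hG.2 Y hY1 hYs
  by_contra hne
  exact hN (hM.2 _ (lt_of_le_of_ne hMY (Ne.symm hne)))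

/-- an elementary abelian subgroup of order `≥ p^(k+1)` inside `X` shows that `X` has rank `> k` -/
theorem not_rankLE_of_elementary {p : ℕ} (hp : p.Prime) {k : ℕ} {E X : Subgroup G} (hEX : E ≤ X)
    (hE : Cfsg.IsElementaryAbelian p E) (hcard : p ^ (k + 1) ≤ Nat.card ↥E) :
    ¬ Cfsg.RankLE k ↥X := by
  intro hR
  have h1 := hR p hp (E.subgroupOf X) ?_ ?_
  · rw [Nat.card_congr (Subgroup.subgroupOfEquivOfLe hEX).toEquiv] at h1
    have : p ^ k < p ^ (k + 1) := Nat.pow_lt_pow_right hp.one_lt (Nat.lt_succ_self k)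
    omega
  · refine ⟨⟨fun x y => ?_⟩⟩
    have := hE.1.is_comm.comm (⟨(x : X), x.2⟩ : ↥E) ⟨(y : X), y.2⟩
    have h2 : ((x : X) : G) * ((y : X) : G) = ((y : X) : G) * ((x : X) : G) :=
      congrArg Subtype.val this
    apply Subtype.ext
    apply Subtype.ext
    exact h2
  · intro a ha
    have := hE.2 (a : G) (Subgroup.mem_subgroupOf.mp ha)
    apply Subtype.ext
    simpa using this

theorem not_pRankLE_of_elementary {p : ℕ} {k : ℕ} (hp : p.Prime) {E X : Subgroup G} (hEX : E ≤ X)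
    (hE : Cfsg.IsElementaryAbelian p E) (hcard : p ^ (k + 1) ≤ Nat.card ↥E) :
    ¬ Cfsg.PRankLE p k ↥X := by
  intro hR
  have h1 := hR (E.subgroupOf X) ?_ ?_
  · rw [Nat.card_congr (Subgroup.subgroupOfEquivOfLe hEX).toEquiv] at h1
    have : p ^ k < p ^ (k + 1) := Nat.pow_lt_pow_right hp.one_lt (Nat.lt_succ_self k)
    omega
  · refine ⟨⟨fun x y => ?_⟩⟩
    have := hE.1.is_comm.comm (⟨(x : X), x.2⟩ : ↥E) ⟨(y : X), y.2⟩
    have h2 : ((x : X) : G) * ((y : X) : G) = ((y : X) : G) * ((x : X) : G) :=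
      congrArg Subtype.val this
    apply Subtype.ext
    apply Subtype.ext
    exact h2
  · intro a ha
    have := hE.2 (a : G) (Subgroup.mem_subgroupOf.mp ha)
    apply Subtype.ext
    simpa using this

theorem isSubnormal_subgroupOf_of_nilpotent {X Y : Subgroup G} (hX : Group.IsNilpotent ↥X) :
    (Y.subgroupOf X).IsSubnormal := by
  haveI := hX
  exact (Cfsg.Agent.S0064.result (G := ↥X)).mp hX _

namespace H81

variable {M : Subgroup G} {p : ℕ} {A₀ : Subgroup G}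

theorem rank_center_AA (h : H81 M p A₀) :
    ¬ Cfsg.RankLE 2 ↥(AA M A₀ ⊓ Subgroup.centralizer (AA M A₀ : Set G)) :=
  not_rankLE_of_elementary h.hp (le_inf h.A₀_le_AA h.A₀_le_centralizer_AA) h.hA₀e h.hA₀3

theorem KK_eq_bot (h : H81 M p A₀) : KK (AA M A₀) = ⊥ := by
  by_contra hne
  have hcard : Nat.card ↥(KK (AA M A₀)) ≠ 1 := fun h1 => hne (Subgroup.card_eq_one.mp h1)
  obtain ⟨k, hk, hkd⟩ := Nat.exists_prime_and_dvd hcard
  have hkF : k ∣ Nat.card ↥(Cfsg.fittingOf M) :=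
    h.centralizer_AA_pi hk (hkd.trans (Subgroup.card_dvd_of_le (KK_le_centralizer _)))
  have hkA := (h.dvd_card_AA_iff hk).mpr hkF
  exact (isPiNat_piCoreOf _ _ k hk hkd).2 hkA

/-- **Step 4** -/
theorem inv_eq_bot (h : H81 M p A₀) (hnp : ¬ IsPGroup p ↥(Cfsg.fittingOf M)) {q : ℕ}
    (hq : q.Prime) (hqA : ¬ q ∣ Nat.card ↥(AA M A₀)) {Y : Subgroup G}
    (hY : Y ∈ Cfsg.invSubgroups ⊤ (AA M A₀) {q}) : Y = ⊥ := by
  haveI := Fact.mk hq
  have hA := h.transHyp hnp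
  obtain ⟨Q₀, hQ₀, hYQ₀⟩ := exists_maxInv_ge hY
  have huniq : ∀ Q₁ ∈ Cfsg.maxInvSubgroups ⊤ (AA M A₀) {q}, Q₁ = Q₀ := by
    intro Q₁ hQ₁
    obtain ⟨k, hk, hkQ⟩ := transitivity_rank_three h.hG hA h.rank_center_AA hq hqA hQ₀ hQ₁
    rw [h.KK_eq_bot, Subgroup.mem_bot] at hk
    rw [hkQ, hk, map_conj_one]
  have hFtop : Cfsg.fittingOf M ≠ ⊤ := ne_top_of_le_coatom h.hM (fittingOf_le M)
  have h95 := Cfsg.Agent.S1395.result h.hG (AA M A₀) hA q hq hqA (Cfsg.fittingOf M) hFtop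
    (fun r hr hrd => (h.dvd_card_AA_iff hr).mpr hrd) AA_le_F
    (isSubnormal_subgroupOf_of_nilpotent (fittingOf_nilpotent M))
    (fun Q₁ hQ₁ Q₂ hQ₂ => transitivity_rank_three h.hG hA h.rank_center_AA hq hqA hQ₁ hQ₂)
  have hsub := h95.2.2.1
  obtain ⟨Q₁, hQ₁, -⟩ := exists_maxInv_ge (bot_mem_invSubgroups (Cfsg.fittingOf M) {q})
  have hQ₁0 : Q₁ = Q₀ := huniq Q₁ (hsub hQ₁)
  subst hQ₁0
  have hMN : M ≤ Subgroup.normalizer (Q₁ : Set G) := by
    intro m hm
    apply mem_normalizer_of_map_conj_eq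
    exact huniq _ (hsub (conj_mem_maxInvSubgroups_of_normalizer hQ₁ (le_normalizer_fittingOf M hm)))
  have hQq : IsPGroup q ↥Q₁ := isPGroup_of_isPiNat hq hQ₀.1.2.1
  by_cases hbot : Q₁ = ⊥
  · rw [eq_bot_iff, ← hbot]; exact hYQ₀
  · exfalso
    have hQs : Group.IsSolvable ↥Q₁ := by
      haveI := hQq.isNilpotent
      infer_instance
    have hN := normalizer_eq_coatom' h.hG h.hM hbot hQs hMN
    have hQM : Q₁ ≤ M := by rw [← hN]; exact Subgroup.le_normalizer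
    have hQF : Q₁ ≤ Cfsg.fittingOf M := le_fittingOf hQM hMN hQq.isNilpotent
    apply hqA
    rw [h.dvd_card_AA_iff hq]
    exact (dvd_card_of_ne_bot_of_isPGroup hQq hbot).trans (Subgroup.card_dvd_of_le hQF)

end H81

end Cfsg.Agent.H2.BGU
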