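import Mathlib
import Cfsg.Agent.H2.BGU.T81a3

/-!
# BG Theorem 8.1(a), part 4: `M` is the only maximal subgroup containing `A = C_F(A₀)`
-/

set_option autoImplicit false
set_option linter.unusedVariables false
set_option linter.unusedSectionVars false
set_option linter.style.haveILetI false

open scoped commutatorElement Pointwise

namespace Cfsg.Agent.H2.BGU

open Cfsg Cfsg.Agent.Lib.Helper4.ThreeStep Cfsg.Agent.Lib.Lead.Conj Cfsg.Agent.Lib.Lead.PiCore
  Cfsg.Agent.Lib.Helper4.BGTrans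

universe u

variable {G : Type u} [Group G] [Finite G]

theorem commute_of_inf_eq_bot {Y₁ Y₂ : Subgroup G} (hbot : Y₁ ⊓ Y₂ = ⊥) {d a : G}
    (hd : d ∈ Y₁) (ha : a ∈ Y₂) (h1 : a * d⁻¹ * a⁻¹ ∈ Y₁) (h2 : d * a * d⁻¹ ∈ Y₂) :
    a * d = d * a := by
  have m1 : d * a * d⁻¹ * a⁻¹ ∈ Y₁ := by
    have e : d * a * d⁻¹ * a⁻¹ = d * (a * d⁻¹ * a⁻¹) := by group
    rw [e]; exact Y₁.mul_mem hd h1
  have m2 : d * a * d⁻¹ * a⁻¹ ∈ Y₂ := Y₂.mul_mem h2 (Y₂.inv_mem ha)
  have h3 : d * a * d⁻¹ * a⁻¹ = 1 := by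
    have : d * a * d⁻¹ * a⁻¹ ∈ Y₁ ⊓ Y₂ := ⟨m1, m2⟩
    rw [hbot, Subgroup.mem_bot] at this
    exact this
  calc a * d = (d * a * d⁻¹ * a⁻¹)⁻¹ * (d * a) := by group
    _ = d * a := by rw [h3, inv_one, one_mul]

theorem Oq_eq_bot_of_not_dvd {q : ℕ} (hq : q.Prime) {X : Subgroup G} (hd : ¬ q ∣ Nat.card ↥X) :
    Oq q X = ⊥ := by
  haveI := Fact.mk hq
  by_contra hne
  exact hd ((dvd_card_of_ne_bot_of_isPGroup (isPGroup_Oq hq X) hne).trans
    (Subgroup.card_dvd_of_le (Oq_le q X)))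

theorem coprime_Oq_Op' {q : ℕ} (hq : q.Prime) (X Y : Subgroup G) :
    (Nat.card ↥(Oq q X)).Coprime (Nat.card ↥(Op' q Y)) := by
  haveI := Fact.mk hq
  obtain ⟨k, hk⟩ := (isPGroup_Oq hq X).exists_card_eq
  rw [hk]
  exact Nat.Coprime.pow_left k (coprime_card_Op' q Y)

theorem Oq_le_Op' {q r : ℕ} (hq : q.Prime) (hr : r.Prime) (hrq : r ≠ q) {X Y : Subgroup G}
    (hXY : X ≤ Y) (hn : Y ≤ Subgroup.normalizer (X : Set G)) : Oq r X ≤ Op' q Y := by
  haveI := Fact.mk hr
  apply le_Op' ((Oq_le r X).trans hXY) (hn.trans (normalizer_le_normalizer_Oq r X))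
  obtain ⟨k, hk⟩ := (isPGroup_Oq hr X).exists_card_eq
  rw [hk]
  exact Nat.Coprime.pow_right k ((Nat.coprime_primes hq hr).mpr (Ne.symm hrq))

namespace H81

variable {M : Subgroup G} {p : ℕ} {A₀ : Subgroup G}

section final

variable (h : H81 M p A₀) (hnp : ¬ IsPGroup p ↥(Cfsg.fittingOf M)) {H : Subgroup G}
  (hH : IsCoatom H) (hAH : AA M A₀ ≤ H)

include h hnp hH hAH

/-- (5a) -/
theorem dvd_F_of_dvd_D {q : ℕ} (hq : q.Prime) (hd : q ∣ Nat.card ↥(Cfsg.fittingOf H)) :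
    q ∣ Nat.card ↥(Cfsg.fittingOf M) := by
  haveI := Fact.mk hq
  by_contra hnd
  have hqA : ¬ q ∣ Nat.card ↥(AA M A₀) := fun hA => hnd ((h.dvd_card_AA_iff hq).mp hA)
  have hinv : Oq q (Cfsg.fittingOf H) ∈ Cfsg.invSubgroups ⊤ (AA M A₀) {q} :=
    mem_invSubgroups_top.mpr ⟨isPiNat_of_isPGroup (isPGroup_Oq hq _),
      hAH.trans (le_normalizer_Oq_fittingOf q H)⟩
  exact Oq_ne_bot_of_dvd (fittingOf_nilpotent H) hd (h.inv_eq_bot hnp hq hqA hinv)

/-- (5c) -/
theorem Oq_D_le_centralizer {q r : ℕ} (hq : q.Prime) (hqF : q ∣ Nat.card ↥(Cfsg.fittingOf M))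
    (hr : r.Prime) (hrq : r ≠ q) :
    Oq q (Cfsg.fittingOf H) ≤ Subgroup.centralizer (Oq r (AA M A₀) : Set G) := by
  have hHtop : H ≠ ⊤ := hH.1
  have h1 : Oq r (AA M A₀) ≤ Op' q H := h.Oq_AA_le_Op' hHtop hAH hq hqF hr hrq
  have hbot : Oq q (Cfsg.fittingOf H) ⊓ Op' q H = ⊥ :=
    (Subgroup.disjoint_of_coprime_natCard (coprime_Oq_Op' hq _ _)).eq_bot
  intro d hd
  rw [Subgroup.mem_centralizer_iff]
  intro a ha
  have ha' : a ∈ Oq r (AA M A₀) := ha
  have haH : a ∈ H := hAH (Oq_le r _ ha')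
  have hdH : d ∈ H := fittingOf_le H (Oq_le q _ hd)
  refine commute_of_inf_eq_bot hbot hd (h1 ha') ?_ ?_
  · exact conj_mem_of_le_normalizer (le_normalizer_Oq_fittingOf q H) haH (Subgroup.inv_mem _ hd)
  · exact conj_mem_of_le_normalizer (le_normalizer_Op' q H) hdH (h1 ha')

/-- (5b) -/
theorem dvd_D_of_dvd_F {q : ℕ} (hq : q.Prime) (hd : q ∣ Nat.card ↥(Cfsg.fittingOf M)) :
    q ∣ Nat.card ↥(Cfsg.fittingOf H) := by
  haveI := Fact.mk hq
  haveI : Group.IsSolvable ↥H := solvable_of_le_coatom h.hG hH le_rfl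
  by_contra hnd
  set D := Cfsg.fittingOf H with hD
  have hAq : Oq q (AA M A₀) ≠ ⊥ :=
    Oq_ne_bot_of_dvd h.AA_nilpotent ((h.dvd_card_AA_iff hq).mpr hd)
  have h1 : D ≤ Subgroup.centralizer (Oq q (AA M A₀) : Set G) := by
    apply le_of_forall_Oq_le (fittingOf_nilpotent H)
    intro r hr
    by_cases hrD : r ∣ Nat.card ↥D
    · have hrF := h.dvd_F_of_dvd_D hnp hH hAH hr hrD
      have hqr : q ≠ r := by
        rintro rfl
        exact hnd hrD
      exact h.Oq_D_le_centralizer hnp hH hAH hr hrF hq hqr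
    · rw [Oq_eq_bot_of_not_dvd hr hrD]
      exact bot_le
  have h2 : Oq q (AA M A₀) ≤ D := by
    refine le_trans (le_inf ((Oq_le q _).trans hAH) ?_) (inf_centralizer_fittingOf_le H)
    exact Subgroup.le_centralizer_iff.mp h1
  exact hnd ((dvd_card_of_ne_bot_of_isPGroup (isPGroup_Oq hq _) hAq).trans
    (Subgroup.card_dvd_of_le h2))

/-- (5d) -/
theorem D_le_M : Cfsg.fittingOf H ≤ M := by
  apply le_of_forall_Oq_le (fittingOf_nilpotent H)
  intro q hq
  by_cases hqD : q ∣ Nat.card ↥(Cfsg.fittingOf H)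
  · have hqF := h.dvd_F_of_dvd_D hnp hH hAH hq hqD
    obtain ⟨r, hr, hrq, hrF⟩ := h.exists_other_prime hnp q
    exact (h.Oq_D_le_centralizer hnp hH hAH hq hqF hr hrq).trans (h.centralizer_Oq_AA_le hr hrF)
  · rw [Oq_eq_bot_of_not_dvd hq hqD]
    exact bot_le

/-- (5e) -/
theorem Op'_H_le_centralizer : Op' p H ≤ Subgroup.centralizer (Oq p (AA M A₀) : Set G) := by
  have hp := h.hp
  haveI := Fact.mk hp
  haveI : Group.IsSolvable ↥H := solvable_of_le_coatom h.hG hH le_rfl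
  set L := Op' p H with hL
  haveI : Group.IsSolvable ↥L := solvable_of_le_coatom h.hG hH (Op'_le p H)
  have hFL : Cfsg.fittingOf L ≤ Cfsg.fittingOf H :=
    fittingOf_le_of_normal (Op'_le p H) (le_normalizer_Op' p H)
  have key : Oq p (AA M A₀) ≤ Subgroup.centralizer (L : Set G) := by
    apply le_centralizer_of_centralizer_fittingOf
    · exact ((Oq_le p _).trans hAH).trans (le_normalizer_Op' p H)
    · exact coprime_Oq_Op' hp _ _
    · rw [Subgroup.le_centralizer_iff]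
      apply le_of_forall_Oq_le (fittingOf_nilpotent L)
      intro q hq
      haveI := Fact.mk hq
      by_cases hqp : q = p
      · subst hqp
        have : Oq q (Cfsg.fittingOf L) = ⊥ := by
          apply eq_bot_of_le_of_coprime ((Oq_le q _).trans (fittingOf_le L))
          exact coprime_Oq_Op' hq _ _
        rw [this]; exact bot_le
      · have h1 : Oq q (Cfsg.fittingOf L) ≤ Oq q (Cfsg.fittingOf H) :=
          le_Oq_of_isPGroup (fittingOf_nilpotent H) ((Oq_le q _).trans hFL) (isPGroup_Oq hq _)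
        by_cases hqD : q ∣ Nat.card ↥(Cfsg.fittingOf H)
        · have hqF := h.dvd_F_of_dvd_D hnp hH hAH hq hqD
          exact h1.trans (h.Oq_D_le_centralizer hnp hH hAH hq hqF hp (fun e => hqp e.symm))
        · rw [Oq_eq_bot_of_not_dvd hq hqD] at h1
          exact h1.trans bot_le
  exact Subgroup.le_centralizer_iff.mp key

theorem Op'_H_le_M : Op' p H ≤ M :=
  (h.Op'_H_le_centralizer hnp hH hAH).trans (h.centralizer_Oq_AA_le h.hp h.p_dvd_F)

theorem Oq_D_ne_bot : Oq p (Cfsg.fittingOf H) ≠ ⊥ := by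
  haveI := Fact.mk h.hp
  exact Oq_ne_bot_of_dvd (fittingOf_nilpotent H) (h.dvd_D_of_dvd_F hnp hH hAH h.hp h.p_dvd_F)

theorem normalizer_Oq_D :
    Subgroup.normalizer (Oq p (Cfsg.fittingOf H) : Set G) = H :=
  normalizer_eq_coatom h.hG hH (h.Oq_D_ne_bot hnp hH hAH)
    ((Oq_le p _).trans (fittingOf_le H)) (le_normalizer_Oq_fittingOf p H)

/-- (5f) -/
theorem Op'_H_le_Op'_M : Op' p H ≤ Op' p M := by
  have hp := h.hp
  haveI := Fact.mk hp
  haveI := h.solvM
  apply balance_sub M p ((Oq_le p _).trans (h.D_le_M hnp hH hAH)) (isPGroup_Oq hp _)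
    (h.Op'_H_le_M hnp hH hAH)
  · exact le_centralizer_of_coprime ((Op'_le p H).trans (le_normalizer_Oq_fittingOf p H))
      (((Oq_le p _).trans (fittingOf_le H)).trans (le_normalizer_Op' p H))
      (coprime_Oq_Op' hp _ _).symm
  · refine inf_le_right.trans ((Subgroup.centralizer_le_normalizer _).trans ?_)
    rw [h.normalizer_Oq_D hnp hH hAH]
    exact le_normalizer_Op' p H
  · exact coprime_card_Op' p H

/-- (5g) -/
theorem Op'_M_le_H : Op' p M ≤ H := by
  have hp := h.hp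
  haveI := Fact.mk hp
  set L := Op' p M with hL
  haveI : Group.IsSolvable ↥L := solvable_of_le_coatom h.hG h.hM (Op'_le p M)
  have hFL : Cfsg.fittingOf L ≤ Cfsg.fittingOf M :=
    fittingOf_le_of_normal (Op'_le p M) (le_normalizer_Op' p M)
  have key : Oq p (Cfsg.fittingOf H) ≤ Subgroup.centralizer (L : Set G) := by
    apply le_centralizer_of_centralizer_fittingOf
    · exact ((Oq_le p _).trans (h.D_le_M hnp hH hAH)).trans (le_normalizer_Op' p M)
    · exact coprime_Oq_Op' hp _ _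
    · rw [Subgroup.le_centralizer_iff]
      apply le_of_forall_Oq_le (fittingOf_nilpotent L)
      intro q hq
      haveI := Fact.mk hq
      by_cases hqp : q = p
      · subst hqp
        have : Oq q (Cfsg.fittingOf L) = ⊥ := by
          apply eq_bot_of_le_of_coprime ((Oq_le q _).trans (fittingOf_le L))
          exact coprime_Oq_Op' hq _ _
        rw [this]; exact bot_le
      · have h1 : Oq q (Cfsg.fittingOf L) ≤ Oq q (Cfsg.fittingOf M) :=
          le_Oq_of_isPGroup (fittingOf_nilpotent M) ((Oq_le q _).trans hFL) (isPGroup_Oq hq _)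
        have h2 := h1.trans (h.Oq_F_le_Oq_AA hq hqp)
        have h3 := h.Oq_D_le_centralizer hnp hH hAH hp h.p_dvd_F hq hqp
        exact h2.trans (Subgroup.le_centralizer_iff.mp h3)
  have h4 : L ≤ Subgroup.centralizer (Oq p (Cfsg.fittingOf H) : Set G) :=
    Subgroup.le_centralizer_iff.mp key
  refine h4.trans ((Subgroup.centralizer_le_normalizer _).trans ?_)
  rw [h.normalizer_Oq_D hnp hH hAH]

/-- (5h) -/
theorem Op'_M_le_Op'_H : Op' p M ≤ Op' p H := by
  have hp := h.hp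
  haveI := Fact.mk hp
  haveI : Group.IsSolvable ↥H := solvable_of_le_coatom h.hG hH le_rfl
  apply balance_sub H p ((h.Zq_le_AA p).trans hAH) (isPGroup_Zq hp _)
    (h.Op'_M_le_H hnp hH hAH)
  · apply le_centralizer_of_coprime ((Op'_le p M).trans (le_normalizer_Zq_fittingOf p M))
      (((Zq_le p _).trans (fittingOf_le M)).trans (le_normalizer_Op' p M))
    obtain ⟨k, hk⟩ := (isPGroup_Zq hp (Cfsg.fittingOf M)).exists_card_eq
    rw [hk]
    exact Nat.Coprime.pow_right k (coprime_card_Op' p M).symm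
  · refine inf_le_right.trans ((Subgroup.centralizer_le_normalizer _).trans ?_)
    rw [h.normalizer_Zq hp h.p_dvd_F]
    exact le_normalizer_Op' p M
  · exact coprime_card_Op' p M

/-- (5i) -/
theorem coatom_eq : H = M := by
  have hp := h.hp
  have heq : Op' p H = Op' p M :=
    le_antisymm (h.Op'_H_le_Op'_M hnp hH hAH) (h.Op'_M_le_Op'_H hnp hH hAH)
  obtain ⟨r, hr, hrp, hrF⟩ := h.exists_other_prime hnp p
  haveI := Fact.mk hr
  have hrD := h.dvd_D_of_dvd_F hnp hH hAH hr hrF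
  have hne : Oq r (Cfsg.fittingOf H) ≠ ⊥ := Oq_ne_bot_of_dvd (fittingOf_nilpotent H) hrD
  have hle : Oq r (Cfsg.fittingOf H) ≤ Op' p H :=
    Oq_le_Op' hp hr hrp (fittingOf_le H) (le_normalizer_fittingOf H)
  have hLne : Op' p M ≠ ⊥ := by
    rw [← heq]
    intro hbot
    apply hne
    rw [eq_bot_iff, ← hbot]
    exact hle
  refine coatom_eq_of_le_normalizer h.hG h.hM hH hLne (Op'_le p M) (le_normalizer_Op' p M) ?_
  rw [← heq]
  exact le_normalizer_Op' p H

end final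

/-- **BG Theorem 8.1(a)** -/
theorem thm81a (h : H81 M p A₀) (hnp : ¬ IsPGroup p ↥(Cfsg.fittingOf M)) :
    Cfsg.InUniqueMaximal (Cfsg.fittingOf M ⊓ Subgroup.centralizer (A₀ : Set G)) :=
  inUniqueMaximal_of_forall h.hM AA_le_M (fun H hH hAH => h.coatom_eq hnp hH hAH)

end H81

end Cfsg.Agent.H2.BGU
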