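import Mathlib
import Cfsg.Agent.H2.BGU.T81a4
import Cfsg.Agent.Lib.Helper4.PuigCenter
import Cfsg.Agent.Lib.Helper4.CNMaxD

/-!
# The centre of the Puig subgroup of a Sylow subgroup of a maximal subgroup
-/

set_option autoImplicit false
set_option linter.unusedVariables false
set_option linter.unusedSectionVars false
set_option linter.style.haveILetI false

open scoped commutatorElement Pointwise

namespace Cfsg.Agent.H2.BGU

open Cfsg Cfsg.Agent.Lib.Helper4.ThreeStep Cfsg.Agent.Lib.Lead.Conj Cfsg.Agent.Lib.Lead.PiCore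
  Cfsg.Agent.Lib.Helper4.BGTrans Cfsg.Agent.Lib.Helper4.Puig

universe u

variable {G : Type u} [Group G] [Finite G]

/-- `Z(L(R))` as a subgroup of `G` -/
def ZL (R : Subgroup G) : Subgroup G :=
  relUpper R ⊓ Subgroup.centralizer (relUpper R : Set G)

theorem ZL_le (R : Subgroup G) : ZL R ≤ R := inf_le_left.trans (relUpper_le R)

theorem normalizer_le_normalizer_ZL (R : Subgroup G) :
    Subgroup.normalizer (R : Set G) ≤ Subgroup.normalizer (ZL R : Set G) :=
  (normalizer_le_normalizer_relUpper R).trans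
    (Cfsg.Agent.Lib.Helper4.PuigCenter.normalizer_le_normalizer_inf_centralizer _)

theorem center_le_ZL (R : Subgroup G) (hR : Group.IsNilpotent ↥R) :
    R ⊓ Subgroup.centralizer (R : Set G) ≤ ZL R := by
  haveI := hR
  refine le_inf ?_ ?_
  · unfold relUpper
    rw [le_iInf_iff]
    intro n
    refine le_trans ?_ (inf_centralizer_relSeq_le R (2 * n))
    exact le_inf inf_le_left (inf_le_right.trans (Subgroup.centralizer_le (relSeq_le R _)))
  · exact inf_le_right.trans (Subgroup.centralizer_le (relUpper_le R))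

theorem ZL_ne_bot (R : Subgroup G) (hR : Group.IsNilpotent ↥R) (hne : R ≠ ⊥) : ZL R ≠ ⊥ := by
  obtain ⟨w, hwR, hw1, hw⟩ := Cfsg.Agent.Lib.Helper4.CNMax.exists_central R hR hne
  intro hbot
  have : w ∈ ZL R := by
    apply center_le_ZL R hR
    refine ⟨hwR, ?_⟩
    refine Subgroup.mem_centralizer_iff.mpr ?_
    intro x hx
    exact hw x hx
  rw [hbot, Subgroup.mem_bot] at this
  exact hw1 this

theorem map_relUpper_subtype (M : Subgroup G) (R : Subgroup ↥M) :
    (relUpper R).map M.subtype = relUpper (R.map M.subtype) := by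
  unfold relUpper
  rw [Subgroup.map_iInf _ M.subtype_injective]
  exact iInf_congr fun n => map_relSeq M.subtype R (M.subtype_injective.injOn) (2 * n + 1)

theorem map_ZL_subtype (M : Subgroup G) (R : Subgroup ↥M) :
    (relUpper R ⊓ Subgroup.centralizer (relUpper R : Set ↥M)).map M.subtype =
      ZL (R.map M.subtype) := by
  unfold ZL
  rw [← map_relUpper_subtype]
  ext y
  constructor
  · rintro ⟨x, ⟨hx1, hx2⟩, rfl⟩
    refine ⟨Subgroup.mem_map_of_mem _ hx1, ?_⟩
    refine Subgroup.mem_centralizer_iff.mpr ?_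
    rintro _ ⟨z, hz, rfl⟩
    have := Subgroup.mem_centralizer_iff.mp hx2 z hz
    exact congrArg Subtype.val this
  · rintro ⟨⟨x, hx, rfl⟩, hy2⟩
    refine ⟨x, ⟨hx, ?_⟩, rfl⟩
    refine Subgroup.mem_centralizer_iff.mpr ?_
    intro z hz
    have := Subgroup.mem_centralizer_iff.mp hy2 (M.subtype z) (Subgroup.mem_map_of_mem _ hz)
    exact Subtype.ext this

theorem le_normalizer_ZL_of_sylow (M : Subgroup G) [Group.IsSolvable ↥M]
    (hodd : Odd (Nat.card ↥M)) (p : ℕ) [Fact p.Prime] (hp2 : p ≠ 2)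
    (hO : Cfsg.pPrimeCore p ↥M = ⊥) (P : Sylow p ↥M) :
    M ≤ Subgroup.normalizer (ZL ((P : Subgroup ↥M).map M.subtype) : Set G) := by
  haveI hn := Cfsg.Agent.Lib.Helper4.PuigCenter.center_relUpper_normal (G := ↥M) hodd p hp2 hO P
  rw [← map_ZL_subtype]
  exact Cfsg.Agent.Lib.Helper4.TypeP.le_normalizer_map_subtype M _

/-- a Sylow subgroup of `H` whose normalizer lies in `H` is a Sylow subgroup of `G` -/
theorem not_dvd_index_of_normalizer_le {H : Subgroup G} {p : ℕ} [Fact p.Prime] (S : Sylow p ↥H)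
    (hN : Subgroup.normalizer (((S : Subgroup ↥H).map H.subtype : Subgroup G) : Set G) ≤ H) :
    ¬ p ∣ ((S : Subgroup ↥H).map H.subtype).index := by
  set S' := (S : Subgroup ↥H).map H.subtype with hS'
  have hS'p : IsPGroup p ↥S' := S.isPGroup'.map _
  obtain ⟨T, hT⟩ := hS'p.exists_le_sylow
  by_cases heq : S' = (T : Subgroup G)
  · rw [heq]; exact T.not_dvd_index
  · exfalso
    obtain ⟨t, htT, htN, htS⟩ := Cfsg.Agent.Lib.Helper4.CNMax.exists_mem_normalizer_not_mem S'
      (T : Subgroup G) T.isPGroup'.isNilpotent hT heq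
    have htH : t ∈ H := hN htN
    set U := S' ⊔ Subgroup.zpowers t with hU
    have hUT : U ≤ (T : Subgroup G) := sup_le hT (by rw [Subgroup.zpowers_le]; exact htT)
    have hUp : IsPGroup p ↥U := T.isPGroup'.to_le hUT
    have hSU : (S : Subgroup ↥H) ≤ U.subgroupOf H := by
      intro s hs
      rw [Subgroup.mem_subgroupOf]
      exact (le_sup_left : S' ≤ U) (Subgroup.mem_map_of_mem _ hs)
    have hmax : U.subgroupOf H = (S : Subgroup ↥H) := S.is_maximal' hUp.comap_subtype hSU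
    have ht : (⟨t, htH⟩ : ↥H) ∈ U.subgroupOf H := by
      rw [Subgroup.mem_subgroupOf]
      exact (le_sup_right : Subgroup.zpowers t ≤ U) (Subgroup.mem_zpowers t)
    rw [hmax] at ht
    exact htS ⟨⟨t, htH⟩, ht, rfl⟩

/-- the facts given by Puig's theorem for a maximal subgroup with trivial `p'`-core -/
theorem puig_facts (hG : Cfsg.IsMinSimpleOddOrder G) {H : Subgroup G} (hH : IsCoatom H) {p : ℕ}
    [hp : Fact p.Prime] (hO : Op' p H = ⊥) (S : Sylow p ↥H)
    (hS : (S : Subgroup ↥H).map H.subtype ≠ ⊥) :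
    Subgroup.normalizer (ZL ((S : Subgroup ↥H).map H.subtype) : Set G) = H ∧
      Subgroup.normalizer (((S : Subgroup ↥H).map H.subtype : Subgroup G) : Set G) ≤ H ∧
      ¬ p ∣ ((S : Subgroup ↥H).map H.subtype).index := by
  set S' := (S : Subgroup ↥H).map H.subtype with hS'
  have hS'p : IsPGroup p ↥S' := S.isPGroup'.map _
  have hS'H : S' ≤ H := Subgroup.map_subtype_le _
  haveI : Group.IsSolvable ↥H := solvable_of_le_coatom hG hH le_rfl
  have hp2 : p ≠ 2 := by
    rintro rfl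
    have h2 : 2 ∣ Nat.card G :=
      (dvd_card_of_ne_bot_of_isPGroup hS'p hS).trans (Subgroup.card_subgroup_dvd_card S')
    exact (Nat.not_even_iff_odd.mpr hG.1) (even_iff_two_dvd.mpr h2)
  have hO' : Cfsg.pPrimeCore p ↥H = ⊥ := (Op'_eq_bot_iff hp.out H).mp hO
  have h1 := le_normalizer_ZL_of_sylow H (odd_card_subgroup hG H) p hp2 hO' S
  have h2 : Subgroup.normalizer (ZL S' : Set G) = H :=
    normalizer_eq_coatom hG hH (ZL_ne_bot S' hS'p.isNilpotent hS) ((ZL_le S').trans hS'H) h1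
  have h3 : Subgroup.normalizer (S' : Set G) ≤ H := by
    rw [← h2]; exact normalizer_le_normalizer_ZL S'
  exact ⟨h2, h3, not_dvd_index_of_normalizer_le S h3⟩

/-- a Sylow subgroup of `G` inside `H`, as a Sylow subgroup of `H` -/
theorem exists_sylow_of_le {H R : Subgroup G} {p : ℕ} [Fact p.Prime] (hRp : IsPGroup p ↥R)
    (hR : ¬ p ∣ R.index) (hRH : R ≤ H) :
    ∃ S : Sylow p ↥H, (S : Subgroup ↥H).map H.subtype = R := by
  have hidx : ¬ p ∣ (R.subgroupOf H).index := by
    intro hd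
    apply hR
    have := Subgroup.relIndex_mul_index hRH
    rw [← this]
    exact Dvd.dvd.mul_right hd _
  have hRp' : IsPGroup p ↥(R.subgroupOf H) := hRp.comap_subtype (K := H)
  refine ⟨hRp'.toSylow hidx, ?_⟩
  rw [IsPGroup.toSylow_coe]
  exact Subgroup.map_subgroupOf_eq_of_le hRH

theorem coatom_eq_of_common_sylow (hG : Cfsg.IsMinSimpleOddOrder G) {H₁ H₂ R : Subgroup G}
    (hH₁ : IsCoatom H₁) (hH₂ : IsCoatom H₂) {p : ℕ} [Fact p.Prime] (hO₁ : Op' p H₁ = ⊥)
    (hO₂ : Op' p H₂ = ⊥) (hRp : IsPGroup p ↥R) (hR : ¬ p ∣ R.index) (hRne : R ≠ ⊥)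
    (hR₁ : R ≤ H₁) (hR₂ : R ≤ H₂) : H₁ = H₂ := by
  obtain ⟨S₁, hS₁⟩ := exists_sylow_of_le hRp hR hR₁
  obtain ⟨S₂, hS₂⟩ := exists_sylow_of_le hRp hR hR₂
  have h1 := (puig_facts hG hH₁ hO₁ S₁ (by rw [hS₁]; exact hRne)).1
  have h2 := (puig_facts hG hH₂ hO₂ S₂ (by rw [hS₂]; exact hRne)).1
  rw [hS₁] at h1
  rw [hS₂] at h2
  rw [← h1, ← h2]

end Cfsg.Agent.H2.BGU
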