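import Mathlib
import Cfsg.Agent.H2.BGU.PuigFacts
import Cfsg.Agent.H1.PStableQuot
import Cfsg.Agent.S1457
import Cfsg.Agent.S1396

/-!
# BG Theorem 8.1(b), part 1: `F(M)` is a `p`-group
-/

set_option autoImplicit false
set_option linter.unusedVariables false
set_option linter.unusedSectionVars false
set_option linter.style.haveILetI false

open scoped commutatorElement Pointwise

namespace Cfsg.Agent.H2.BGU

open Cfsg Cfsg.Agent.Lib.Helper4.ThreeStep Cfsg.Agent.Lib.Lead.Conj Cfsg.Agent.Lib.Lead.PiCore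
  Cfsg.Agent.Lib.Helper4.BGTrans Cfsg.Agent.Lib.Helper4.Puig

universe u

variable {G : Type u} [Group G] [Finite G]

theorem eq_bot_of_isPGroup_of_coprime {p : ℕ} [Fact p.Prime] {Y : Subgroup G} (hY : IsPGroup p ↥Y)
    (hc : p.Coprime (Nat.card ↥Y)) : Y = ⊥ := by
  by_contra hne
  have h1 := dvd_card_of_ne_bot_of_isPGroup hY hne
  have := Nat.dvd_gcd dvd_rfl h1
  rw [hc.gcd_eq_one] at this
  exact (Fact.out : p.Prime).one_lt.ne' (Nat.dvd_one.mp this)

/-- an elementary abelian subgroup witnessing `¬ PRankLE p k` -/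
theorem exists_elementary_of_not_pRankLE {p : ℕ} [hp : Fact p.Prime] {A : Subgroup G} {k : ℕ}
    (hA : ¬ Cfsg.PRankLE p k ↥A) :
    ∃ E : Subgroup G, E ≤ A ∧ Cfsg.IsElementaryAbelian p E ∧ p ^ (k + 1) ≤ Nat.card ↥E := by
  unfold Cfsg.PRankLE at hA
  push Not at hA
  obtain ⟨E₀, hE₀c, hE₀e, hE₀card⟩ := hA
  refine ⟨E₀.map A.subtype, Subgroup.map_subtype_le _, ⟨?_, ?_⟩, ?_⟩
  · haveI := hE₀c
    exact Subgroup.map_isMulCommutative E₀ A.subtype
  · rintro _ ⟨x, hx, rfl⟩
    have := hE₀e x hx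
    have h2 := congrArg Subtype.val this
    simpa using h2
  · rw [Nat.card_congr (E₀.equivMapOfInjective _ A.subtype_injective).symm.toEquiv]
    have hE₀p : IsPGroup p ↥E₀ := by
      intro x
      refine ⟨1, ?_⟩
      rw [pow_one]
      have := hE₀e x x.2
      apply Subtype.ext
      simpa using this
    obtain ⟨m, hm⟩ := hE₀p.exists_card_eq
    rw [hm] at hE₀card ⊢
    have : k < m := by
      by_contra hle
      push Not at hle
      exact absurd (Nat.pow_le_pow_right hp.out.pos hle) (not_le.mpr hE₀card)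
    exact Nat.pow_le_pow_right hp.out.pos this

/-- standing hypotheses of BG Theorem 8.1(b) -/
structure H81b (M : Subgroup G) (p : ℕ) : Prop where
  hG : Cfsg.IsMinSimpleOddOrder G
  hM : IsCoatom M
  hp : p.Prime
  hF : IsPGroup p ↥(Cfsg.fittingOf M)
  hFne : Cfsg.fittingOf M ≠ ⊥

namespace H81b

variable {M : Subgroup G} {p : ℕ}

theorem solvM (h : H81b M p) : Group.IsSolvable ↥M := solvable_of_le_coatom h.hG h.hM le_rfl

theorem Op'_M_eq_bot (h : H81b M p) : Op' p M = ⊥ := by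
  haveI := Fact.mk h.hp
  set L := Op' p M with hL
  haveI : Group.IsSolvable ↥L := solvable_of_le_coatom h.hG h.hM (Op'_le p M)
  apply eq_bot_of_fittingOf_eq_bot
  have h1 : Cfsg.fittingOf L ≤ Cfsg.fittingOf M :=
    fittingOf_le_of_normal (Op'_le p M) (le_normalizer_Op' p M)
  apply eq_bot_of_isPGroup_of_coprime (h.hF.to_le h1)
  exact Nat.Coprime.coprime_dvd_right (Subgroup.card_dvd_of_le (fittingOf_le L))
    (coprime_card_Op' p M)

theorem p_ne_two (h : H81b M p) : p ≠ 2 := by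
  haveI := Fact.mk h.hp
  rintro rfl
  have h2 : 2 ∣ Nat.card G :=
    (dvd_card_of_ne_bot_of_isPGroup h.hF h.hFne).trans (Subgroup.card_subgroup_dvd_card _)
  exact (Nat.not_even_iff_odd.mpr h.hG.1) (even_iff_two_dvd.mpr h2)

theorem p_dvd_card (h : H81b M p) : p ∣ Nat.card G := by
  haveI := Fact.mk h.hp
  exact (dvd_card_of_ne_bot_of_isPGroup h.hF h.hFne).trans (Subgroup.card_subgroup_dvd_card _)

theorem F_le_sylow (h : H81b M p) [Fact p.Prime] (P : Sylow p ↥M) :
    Cfsg.fittingOf M ≤ (P : Subgroup ↥M).map M.subtype := by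
  have h1 : IsPGroup p ↥(Cfsg.fittingSubgroup ↥M) :=
    h.hF.of_injective ((Cfsg.fittingSubgroup ↥M).equivMapOfInjective M.subtype
      M.subtype_injective).toMonoidHom
      ((Cfsg.fittingSubgroup ↥M).equivMapOfInjective M.subtype M.subtype_injective).injective
  have h2 : Cfsg.fittingSubgroup ↥M ≤ (P : Subgroup ↥M) :=
    (Cfsg.Agent.H1.le_pCore inferInstance h1).trans (Cfsg.Agent.H1.pCore_le_sylow P)
  exact Subgroup.map_mono h2

theorem sylow_ne_bot (h : H81b M p) [Fact p.Prime] (P : Sylow p ↥M) :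
    (P : Subgroup ↥M).map M.subtype ≠ ⊥ := by
  intro hbot
  apply h.hFne
  rw [eq_bot_iff, ← hbot]
  exact h.F_le_sylow P

theorem puig (h : H81b M p) [Fact p.Prime] (P : Sylow p ↥M) :
    Subgroup.normalizer (ZL ((P : Subgroup ↥M).map M.subtype) : Set G) = M ∧
      Subgroup.normalizer (((P : Subgroup ↥M).map M.subtype : Subgroup G) : Set G) ≤ M ∧
      ¬ p ∣ ((P : Subgroup ↥M).map M.subtype).index :=
  puig_facts h.hG h.hM h.Op'_M_eq_bot P (h.sylow_ne_bot P)

/-- (b3) -/
theorem scn_le_F (h : H81b M p) [Fact p.Prime] (P : Sylow p ↥M) {A : Subgroup G}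
    (hA : Cfsg.IsSCN ((P : Subgroup ↥M).map M.subtype) A) : A ≤ Cfsg.fittingOf M := by
  haveI := h.solvM
  set P' := (P : Subgroup ↥M).map M.subtype with hP'
  have hAM : A ≤ M := hA.1.trans (Subgroup.map_subtype_le _)
  have hAcomm : A ≤ Subgroup.centralizer (A : Set G) := by
    have := hA.2.2
    intro a ha
    have : a ∈ P' ⊓ Subgroup.centralizer (A : Set G) := by rw [this]; exact ha
    exact this.2
  have h1 := Cfsg.Agent.S1457.result (G := ↥M) (odd_card_subgroup h.hG M) p P (A.subgroupOf M)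
    (by
      intro a ha
      obtain ⟨x, hx, hxa⟩ := hA.1 (Subgroup.mem_subgroupOf.mp ha)
      have : x = a := Subtype.ext hxa
      rwa [← this])
    (by
      refine ⟨⟨fun x y => ?_⟩⟩
      have := Subgroup.mem_centralizer_iff.mp (hAcomm (Subgroup.mem_subgroupOf.mp y.2)) _
        (Subgroup.mem_subgroupOf.mp x.2)
      apply Subtype.ext
      apply Subtype.ext
      exact this)
    (by
      intro s hs
      rw [Subgroup.mem_normalizer_iff]
      intro a
      rw [Subgroup.mem_subgroupOf, Subgroup.mem_subgroupOf]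
      have hs' : (s : G) ∈ P' := Subgroup.mem_map_of_mem _ hs
      exact Subgroup.mem_normalizer_iff.mp (hA.2.1 hs') (a : G))
  have hO' : Cfsg.pPrimeCore p ↥M = ⊥ := (Op'_eq_bot_iff h.hp M).mp h.Op'_M_eq_bot
  rw [Cfsg.Agent.H1.pPrimePCore_eq_pCore_of_pPrimeCore_eq_bot hO'] at h1
  have h2 : Cfsg.pCore p ↥M ≤ Cfsg.fittingSubgroup ↥M :=
    Cfsg.Agent.H1.le_fittingSubgroup inferInstance (Cfsg.Agent.H1.pCore_isPGroup p).isNilpotent
  intro a ha
  rw [mem_fittingOf_iff]
  exact ⟨hAM ha, h2 (h1 (Subgroup.mem_subgroupOf.mpr ha))⟩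

theorem scn_comm {P' A : Subgroup G} (hA : Cfsg.IsSCN P' A) :
    A ≤ Subgroup.centralizer (A : Set G) := by
  intro a ha
  have : a ∈ P' ⊓ Subgroup.centralizer (A : Set G) := by rw [hA.2.2]; exact ha
  exact this.2

/-- (b4) -/
theorem center_F_le_scn (h : H81b M p) [Fact p.Prime] (P : Sylow p ↥M) {A : Subgroup G}
    (hA : Cfsg.IsSCN ((P : Subgroup ↥M).map M.subtype) A) :
    Cfsg.fittingOf M ⊓ Subgroup.centralizer (Cfsg.fittingOf M : Set G) ≤ A := by
  rw [← hA.2.2]
  refine le_inf (inf_le_left.trans (h.F_le_sylow P)) ?_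
  exact inf_le_right.trans (Subgroup.centralizer_le (h.scn_le_F P hA))

theorem centralizer_scn_le (h : H81b M p) [Fact p.Prime] (P : Sylow p ↥M) {A : Subgroup G}
    (hA : Cfsg.IsSCN ((P : Subgroup ↥M).map M.subtype) A) :
    Subgroup.centralizer (A : Set G) ≤ M := by
  set Z := Cfsg.fittingOf M ⊓ Subgroup.centralizer (Cfsg.fittingOf M : Set G) with hZ
  have hZne : Z ≠ ⊥ := by
    obtain ⟨w, hwF, hw1, hw⟩ := Cfsg.Agent.Lib.Helper4.CNMax.exists_central (Cfsg.fittingOf M)
      (fittingOf_nilpotent M) h.hFne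
    intro hbot
    have hwC : w ∈ Subgroup.centralizer (Cfsg.fittingOf M : Set G) :=
      Subgroup.mem_centralizer_iff.mpr fun x hx => hw x hx
    have : w ∈ Z := ⟨hwF, hwC⟩
    rw [hbot, Subgroup.mem_bot] at this
    exact hw1 this
  have hMZ : M ≤ Subgroup.normalizer (Z : Set G) :=
    (le_normalizer_fittingOf M).trans
      (Cfsg.Agent.Lib.Helper4.PuigCenter.normalizer_le_normalizer_inf_centralizer _)
  have hN := normalizer_eq_coatom h.hG h.hM hZne (inf_le_left.trans (fittingOf_le M)) hMZ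
  have h1 : Subgroup.centralizer (A : Set G) ≤ Subgroup.centralizer (Z : Set G) :=
    Subgroup.centralizer_le (h.center_F_le_scn P hA)
  have h2 : Subgroup.centralizer (Z : Set G) ≤ Subgroup.normalizer (Z : Set G) :=
    Subgroup.centralizer_le_normalizer _
  rw [hN] at h2
  exact h1.trans h2

end H81b

end Cfsg.Agent.H2.BGU
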