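import Mathlib
import Cfsg.Agent.H2.BGU.T81b1

/-!
# BG Theorem 8.1(b), part 2: invariant `p'`-subgroups of a member of `SCN₃(P)` are trivial
-/

set_option autoImplicit false
set_option linter.unusedVariables false
set_option linter.unusedSectionVars false
set_option linter.style.haveILetI false

open scoped commutatorElement Pointwise

namespace Cfsg.Agent.H2.BGU

open Cfsg Cfsg.Agent.Lib.Helper4.ThreeStep Cfsg.Agent.Lib.Lead.Conj Cfsg.Agent.Lib.Lead.PiCore
  Cfsg.Agent.Lib.Helper4.BGTrans Cfsg.Agent.Lib.Helper4.Puig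

universe u

variable {G : Type u} [Group G] [Finite G]

theorem pRankLE_mono {p k l : ℕ} (hp : p.Prime) (hkl : k ≤ l) {X : Type*} [Group X]
    (h : Cfsg.PRankLE p k X) : Cfsg.PRankLE p l X := by
  intro A hAc hAe
  exact (h A hAc hAe).trans (Nat.pow_le_pow_right hp.pos hkl)

namespace H81b

variable {M : Subgroup G} {p : ℕ}

section scn

variable (h : H81b M p) [hpf : Fact p.Prime] (P : Sylow p ↥M) {A : Subgroup G}
  (hA : Cfsg.IsSCN ((P : Subgroup ↥M).map M.subtype) A) (hA3 : ¬ Cfsg.PRankLE p 2 ↥A)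

include h hA

theorem scn_isPGroup : IsPGroup p ↥A := (P.isPGroup'.map M.subtype).to_le hA.1

theorem scn_le_M : A ≤ M := hA.1.trans (Subgroup.map_subtype_le _)

include hA3

theorem scn_ne_bot : A ≠ ⊥ := by
  obtain ⟨E, hEA, hEe, hEcard⟩ := exists_elementary_of_not_pRankLE hA3
  intro hbot
  rw [hbot, le_bot_iff] at hEA
  rw [hEA, Subgroup.card_bot] at hEcard
  have : 1 < p ^ (2 + 1) := Nat.one_lt_pow (by norm_num) h.hp.one_lt
  omega

theorem p_dvd_scn : p ∣ Nat.card ↥A :=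
  dvd_card_of_ne_bot_of_isPGroup (h.scn_isPGroup P hA) (h.scn_ne_bot P hA hA3)

theorem scn_rank : ¬ Cfsg.RankLE 2 ↥(A ⊓ Subgroup.centralizer (A : Set G)) := by
  obtain ⟨E, hEA, hEe, hEcard⟩ := exists_elementary_of_not_pRankLE hA3
  exact not_rankLE_of_elementary h.hp (le_inf hEA (hEA.trans (scn_comm hA))) hEe hEcard

/-- (b5) -/
theorem transHyp_scn : Cfsg.TransitivityHypothesis A := by
  set P' := (P : Subgroup ↥M).map M.subtype with hP'
  have hP'p : IsPGroup p ↥P' := P.isPGroup'.map M.subtype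
  have hidx := (h.puig P).2.2
  have hAc : IsMulCommutative ↥A := by
    refine ⟨⟨fun x y => ?_⟩⟩
    have := Subgroup.mem_centralizer_iff.mp (scn_comm hA y.2) _ x.2
    exact Subtype.ext this
  apply Cfsg.Agent.S1396.result h.hG p h.p_dvd_card A (h.scn_isPGroup P hA) hAc
  refine Or.inr ⟨hP'p.toSylow hidx, ?_, fun h1 => hA3 (pRankLE_mono h.hp (by norm_num) h1)⟩
  rw [IsPGroup.toSylow_coe]
  exact hA

/-- (b6) -/
theorem KK_scn_eq_bot : KK A = ⊥ := by
  haveI := h.solvM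
  have h1 : KK A ≤ Op' p M := by
    apply balance_sub M p (h.scn_le_M P hA) (h.scn_isPGroup P hA)
      ((KK_le_centralizer A).trans (h.centralizer_scn_le P hA)) (KK_le_centralizer A)
    · exact inf_le_right.trans (le_normalizer_piCoreOf _ _)
    · rw [Nat.Prime.coprime_iff_not_dvd h.hp]
      intro hd
      exact (isPiNat_piCoreOf _ _ p h.hp hd).2 (h.p_dvd_scn P hA hA3)
  rw [h.Op'_M_eq_bot] at h1
  exact le_bot_iff.mp h1

theorem not_dvd_scn {q : ℕ} (hq : q.Prime) (hqp : q ≠ p) : ¬ q ∣ Nat.card ↥A := by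
  obtain ⟨k, hk⟩ := (h.scn_isPGroup P hA).exists_card_eq
  rw [hk]
  intro hd
  exact hqp ((Nat.prime_dvd_prime_iff_eq hq h.hp).mp (hq.dvd_of_dvd_pow hd))

/-- (b7) -/
theorem inv_scn_eq_bot {q : ℕ} (hq : q.Prime) (hqp : q ≠ p) {Y : Subgroup G}
    (hY : Y ∈ Cfsg.invSubgroups ⊤ A {q}) : Y = ⊥ := by
  haveI := Fact.mk hq
  have hTA := h.transHyp_scn P hA hA3
  have hqA := h.not_dvd_scn P hA hA3 hq hqp
  have hrank := h.scn_rank P hA hA3
  obtain ⟨Q₀, hQ₀, hYQ₀⟩ := exists_maxInv_ge hY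
  have huniq : ∀ Q₁ ∈ Cfsg.maxInvSubgroups ⊤ A {q}, Q₁ = Q₀ := by
    intro Q₁ hQ₁
    obtain ⟨k, hk, hkQ⟩ := transitivity_rank_three h.hG hTA hrank hq hqA hQ₀ hQ₁
    rw [h.KK_scn_eq_bot P hA hA3, Subgroup.mem_bot] at hk
    rw [hkQ, hk, map_conj_one]
  have hFtop : Cfsg.fittingOf M ≠ ⊤ := ne_top_of_le_coatom h.hM (fittingOf_le M)
  have h95 := Cfsg.Agent.S1395.result h.hG A hTA q hq hqA (Cfsg.fittingOf M) hFtop
    (fun r hr hrd => by
      obtain ⟨k, hk⟩ := h.hF.exists_card_eq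
      rw [hk] at hrd
      have : r = p := (Nat.prime_dvd_prime_iff_eq hr h.hp).mp (hr.dvd_of_dvd_pow hrd)
      rw [this]
      exact h.p_dvd_scn P hA hA3)
    (h.scn_le_F P hA)
    (isSubnormal_subgroupOf_of_nilpotent (fittingOf_nilpotent M))
    (fun Q₁ hQ₁ Q₂ hQ₂ => transitivity_rank_three h.hG hTA hrank hq hqA hQ₁ hQ₂)
  have hsub := h95.2.2.1
  obtain ⟨Q₁, hQ₁, -⟩ := exists_maxInv_ge (bot_mem_invSubgroups (Cfsg.fittingOf M) {q})
  have hQ₁0 : Q₁ = Q₀ := huniq Q₁ (hsub hQ₁)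
  subst hQ₁0
  have hMN : M ≤ Subgroup.normalizer (Q₁ : Set G) := by
    intro m hm
    apply mem_normalizer_of_map_conj_eq
    exact huniq _ (hsub (conj_mem_maxInvSubgroups_of_normalizer hQ₁ (le_normalizer_fittingOf M hm)))
  have hQq : IsPGroup q ↥Q₁ := isPGroup_of_isPiNat hq hQ₀.1.2.1
  by_cases hbot : Q₁ = ⊥
  · rw [eq_bot_iff, ← hbot]; exact hYQ₀
  · exfalso
    have hQs : Group.IsSolvable ↥Q₁ := by
      haveI := hQq.isNilpotent
      infer_instance
    have hN := normalizer_eq_coatom' h.hG h.hM hbot hQs hMN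
    have hQM : Q₁ ≤ M := by rw [← hN]; exact Subgroup.le_normalizer
    have hle : Q₁ ≤ Op' p M := by
      apply le_Op' hQM hMN
      obtain ⟨k, hk⟩ := hQq.exists_card_eq
      rw [hk]
      exact Nat.Coprime.pow_right k ((Nat.coprime_primes h.hp hq).mpr (Ne.symm hqp))
    rw [h.Op'_M_eq_bot] at hle
    exact hbot (le_bot_iff.mp hle)

/-- (b8) -/
theorem Op'_eq_bot_of_ge {H : Subgroup G} (hH : IsCoatom H) (hAH : A ≤ H) : Op' p H = ⊥ := by
  set L := Op' p H with hL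
  haveI : Group.IsSolvable ↥L := solvable_of_le_coatom h.hG hH (Op'_le p H)
  apply eq_bot_of_fittingOf_eq_bot
  rw [eq_bot_iff]
  apply le_of_forall_Oq_le (fittingOf_nilpotent L)
  intro q hq
  haveI := Fact.mk hq
  by_cases hqp : q = p
  · subst hqp
    have : Oq q (Cfsg.fittingOf L) = ⊥ := by
      apply eq_bot_of_le_of_coprime ((Oq_le q _).trans (fittingOf_le L))
      exact coprime_Oq_Op' hq _ _
    rw [this]
  · have hinv : Oq q (Cfsg.fittingOf L) ∈ Cfsg.invSubgroups ⊤ A {q} := by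
      refine mem_invSubgroups_top.mpr ⟨isPiNat_of_isPGroup (isPGroup_Oq hq _), ?_⟩
      exact ((hAH.trans (le_normalizer_Op' p H)).trans
        (normalizer_le_normalizer_fittingOf L)).trans (normalizer_le_normalizer_Oq q _)
    rw [h.inv_scn_eq_bot P hA hA3 hq hqp hinv]

end scn

end H81b

end Cfsg.Agent.H2.BGU
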