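import Mathlib
import Cfsg.Agent.H2.BGU.T81b2

/-!
# Maximal subgroups `H ≠ M` containing `B` with `|H ∩ M|_p` maximal
-/

set_option autoImplicit false
set_option linter.unusedVariables false
set_option linter.unusedSectionVars false
set_option linter.style.haveILetI false

open scoped commutatorElement Pointwise

namespace Cfsg.Agent.H2.BGU

open Cfsg Cfsg.Agent.Lib.Helper4.ThreeStep Cfsg.Agent.Lib.Lead.Conj Cfsg.Agent.Lib.Lead.PiCore
  Cfsg.Agent.Lib.Helper4.BGTrans Cfsg.Agent.Lib.Helper4.Puig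

universe u

variable {G : Type u} [Group G] [Finite G]

/-- the `p`-part of `|H ∩ M|` -/
noncomputable def pInter (p : ℕ) (H M : Subgroup G) : ℕ :=
  (Nat.card ↥(H ⊓ M)).factorization p

theorem card_sylow_map {X : Subgroup G} {p : ℕ} [Fact p.Prime] (R₀ : Sylow p ↥X) :
    Nat.card ↥((R₀ : Subgroup ↥X).map X.subtype) = p ^ (Nat.card ↥X).factorization p := by
  rw [← Sylow.card_eq_multiplicity R₀]
  exact Nat.card_congr ((R₀ : Subgroup ↥X).equivMapOfInjective _ X.subtype_injective).symm.toEquiv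

/-- a `p`-subgroup `U` of `X` containing (the image of) a Sylow `p`-subgroup of `X` equals it -/
theorem eq_of_sylow_le {X U : Subgroup G} {p : ℕ} [Fact p.Prime] (R₀ : Sylow p ↥X)
    (hUp : IsPGroup p ↥U) (hUX : U ≤ X) (hRU : (R₀ : Subgroup ↥X).map X.subtype ≤ U) :
    U = (R₀ : Subgroup ↥X).map X.subtype := by
  have hle : (R₀ : Subgroup ↥X) ≤ U.subgroupOf X := by
    intro s hs
    rw [Subgroup.mem_subgroupOf]
    exact hRU (Subgroup.mem_map_of_mem _ hs)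
  have hmax : U.subgroupOf X = (R₀ : Subgroup ↥X) := R₀.is_maximal' hUp.comap_subtype hle
  rw [← hmax]
  exact (Subgroup.map_subgroupOf_eq_of_le hUX).symm

theorem exists_sylow_ge {X B : Subgroup G} {p : ℕ} [Fact p.Prime] (hBp : IsPGroup p ↥B)
    (hBX : B ≤ X) : ∃ R₀ : Sylow p ↥X, B ≤ (R₀ : Subgroup ↥X).map X.subtype := by
  have hB' : IsPGroup p ↥(B.subgroupOf X) := hBp.comap_subtype
  obtain ⟨R₀, hR₀⟩ := hB'.exists_le_sylow
  refine ⟨R₀, fun b hb => ⟨⟨b, hBX hb⟩, hR₀ (Subgroup.mem_subgroupOf.mpr hb), rfl⟩⟩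

section

variable (hG : Cfsg.IsMinSimpleOddOrder G) {M : Subgroup G} (hM : IsCoatom M) {p : ℕ}
  [hp : Fact p.Prime] {B : Subgroup G} (hB : B ≠ ⊥) {H : Subgroup G} (hH : IsCoatom H)
  (hBH : B ≤ H) (hHM : H ≠ M)
  (hmax : ∀ H' : Subgroup G, IsCoatom H' → B ≤ H' → H' ≠ M → pInter p H' M ≤ pInter p H M)
  (R₀ : Sylow p ↥(H ⊓ M)) (hBR : B ≤ (R₀ : Subgroup ↥(H ⊓ M)).map (H ⊓ M).subtype)

include hG hM hB hH hBH hHM hmax hBR

theorem normalizer_le_of_ne_sylow {T : Subgroup G} (hTp : IsPGroup p ↥T) (hTM : T ≤ M)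
    (hRT : (R₀ : Subgroup ↥(H ⊓ M)).map (H ⊓ M).subtype ≤ T)
    (hne : (R₀ : Subgroup ↥(H ⊓ M)).map (H ⊓ M).subtype ≠ T) :
    Subgroup.normalizer (((R₀ : Subgroup ↥(H ⊓ M)).map (H ⊓ M).subtype : Subgroup G) : Set G) ≤ M := by
  set R := (R₀ : Subgroup ↥(H ⊓ M)).map (H ⊓ M).subtype with hR
  have hRp : IsPGroup p ↥R := R₀.isPGroup'.map _
  have hRne : R ≠ ⊥ := by
    intro hbot
    apply hB
    rw [eq_bot_iff, ← hbot]
    exact hBR
  have hRs : Group.IsSolvable ↥R := by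
    haveI := hRp.isNilpotent
    infer_instance
  have hNtop : Subgroup.normalizer (R : Set G) ≠ ⊤ := normalizer_ne_top hG.2 R hRne hRs
  obtain ⟨H', hH', hNH'⟩ := exists_coatom_ge hNtop
  by_cases hH'M : H' = M
  · rw [← hH'M]; exact hNH'
  · exfalso
    obtain ⟨x, hxT, hxN, hxR⟩ := Cfsg.Agent.Lib.Helper4.CNMax.exists_mem_normalizer_not_mem R T
      hTp.isNilpotent hRT hne
    set R₁ := R ⊔ Subgroup.zpowers x with hR₁
    have hR₁T : R₁ ≤ T := sup_le hRT (by rw [Subgroup.zpowers_le]; exact hxT)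
    have hR₁p : IsPGroup p ↥R₁ := hTp.to_le hR₁T
    have hR₁N : R₁ ≤ Subgroup.normalizer (R : Set G) :=
      sup_le Subgroup.le_normalizer (by rw [Subgroup.zpowers_le]; exact hxN)
    have hR₁I : R₁ ≤ H' ⊓ M := le_inf (hR₁N.trans hNH') (hR₁T.trans hTM)
    have hlt : Nat.card ↥R < Nat.card ↥R₁ :=
      card_lt_of_le_of_mem le_sup_left
        ((le_sup_right : Subgroup.zpowers x ≤ R₁) (Subgroup.mem_zpowers x)) hxR
    obtain ⟨b, hb⟩ := hR₁p.exists_card_eq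
    have hcardR : Nat.card ↥R = p ^ pInter p H M := card_sylow_map R₀
    rw [hcardR, hb] at hlt
    have hlt' : pInter p H M < b := (Nat.pow_lt_pow_iff_right hp.out.one_lt).mp hlt
    have hdvd : p ^ b ∣ Nat.card ↥(H' ⊓ M) := hb ▸ Subgroup.card_dvd_of_le hR₁I
    have hle : b ≤ pInter p H' M :=
      (Nat.Prime.pow_dvd_iff_le_factorization hp.out Nat.card_pos.ne').mp hdvd
    have := hmax H' hH' ((hBR.trans Subgroup.le_normalizer).trans hNH') hH'M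
    omega

theorem eq_sylow_of_normalizer_le
    (hN : Subgroup.normalizer (((R₀ : Subgroup ↥(H ⊓ M)).map (H ⊓ M).subtype : Subgroup G) : Set G) ≤ M)
    {S : Subgroup G} (hSp : IsPGroup p ↥S) (hSH : S ≤ H)
    (hRS : (R₀ : Subgroup ↥(H ⊓ M)).map (H ⊓ M).subtype ≤ S) :
    (R₀ : Subgroup ↥(H ⊓ M)).map (H ⊓ M).subtype = S := by
  set R := (R₀ : Subgroup ↥(H ⊓ M)).map (H ⊓ M).subtype with hR
  by_contra hne
  obtain ⟨y, hyS, hyN, hyR⟩ := Cfsg.Agent.Lib.Helper4.CNMax.exists_mem_normalizer_not_mem R S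
    hSp.isNilpotent hRS hne
  set R₁ := R ⊔ Subgroup.zpowers y with hR₁
  have hR₁S : R₁ ≤ S := sup_le hRS (by rw [Subgroup.zpowers_le]; exact hyS)
  have hR₁p : IsPGroup p ↥R₁ := hSp.to_le hR₁S
  have hR₁N : R₁ ≤ Subgroup.normalizer (R : Set G) :=
    sup_le Subgroup.le_normalizer (by rw [Subgroup.zpowers_le]; exact hyN)
  have hR₁I : R₁ ≤ H ⊓ M := le_inf (hR₁S.trans hSH) (hR₁N.trans hN)
  have := eq_of_sylow_le R₀ hR₁p hR₁I le_sup_left
  apply hyR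
  rw [hR, ← this]
  exact (le_sup_right : Subgroup.zpowers y ≤ R₁) (Subgroup.mem_zpowers y)

end

/-- existence of a maximal subgroup `H ≠ M` over `B` with `|H ∩ M|_p` maximal -/
theorem exists_max_inter {M B : Subgroup G} (p : ℕ) {H₀ : Subgroup G} (hH₀ : IsCoatom H₀)
    (hBH₀ : B ≤ H₀) (hH₀M : H₀ ≠ M) :
    ∃ H : Subgroup G, IsCoatom H ∧ B ≤ H ∧ H ≠ M ∧
      ∀ H' : Subgroup G, IsCoatom H' → B ≤ H' → H' ≠ M → pInter p H' M ≤ pInter p H M := by
  let ι := {H : Subgroup G // IsCoatom H ∧ B ≤ H ∧ H ≠ M}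
  haveI : Nonempty ι := ⟨⟨H₀, hH₀, hBH₀, hH₀M⟩⟩
  obtain ⟨⟨H, hH1, hH2, hH3⟩, hmax⟩ := Finite.exists_max (fun H : ι => pInter p (H : Subgroup G) M)
  exact ⟨H, hH1, hH2, hH3, fun H' h1 h2 h3 => hmax ⟨H', h1, h2, h3⟩⟩

end Cfsg.Agent.H2.BGU
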