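import Mathlib
import Cfsg.Agent.H2.BGU.MaxInter

/-!
# BG Theorem 8.1(b), part 3: members of `SCN₃(P)` lie in a unique maximal subgroup
-/

set_option autoImplicit false
set_option linter.unusedVariables false
set_option linter.unusedSectionVars false
set_option linter.style.haveILetI false

open scoped commutatorElement Pointwise

namespace Cfsg.Agent.H2.BGU

open Cfsg Cfsg.Agent.Lib.Helper4.ThreeStep Cfsg.Agent.Lib.Lead.Conj Cfsg.Agent.Lib.Lead.PiCore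
  Cfsg.Agent.Lib.Helper4.BGTrans Cfsg.Agent.Lib.Helper4.Puig

universe u

variable {G : Type u} [Group G] [Finite G]

namespace H81b

variable {M : Subgroup G} {p : ℕ}

theorem scn_unique (h : H81b M p) [hpf : Fact p.Prime] (P : Sylow p ↥M) {A : Subgroup G}
    (hA : Cfsg.IsSCN ((P : Subgroup ↥M).map M.subtype) A) (hA3 : ¬ Cfsg.PRankLE p 2 ↥A)
    {H₀ : Subgroup G} (hH₀ : IsCoatom H₀) (hAH₀ : A ≤ H₀) : H₀ = M := by
  by_contra hne
  obtain ⟨H, hH, hAH, hHM, hmax⟩ := exists_max_inter (M := M) p hH₀ hAH₀ hne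
  have hAp := h.scn_isPGroup P hA
  have hAM := h.scn_le_M P hA
  have hAne := h.scn_ne_bot P hA hA3
  obtain ⟨R₀, hAR⟩ := exists_sylow_ge hAp (le_inf hAH hAM)
  set R := (R₀ : Subgroup ↥(H ⊓ M)).map (H ⊓ M).subtype with hR
  have hRp : IsPGroup p ↥R := R₀.isPGroup'.map _
  have hRI : R ≤ H ⊓ M := Subgroup.map_subtype_le _
  have hRne : R ≠ ⊥ := by
    intro hbot
    apply hAne
    rw [eq_bot_iff, ← hbot]
    exact hAR
  obtain ⟨T₀, hRT⟩ := exists_sylow_ge hRp (hRI.trans inf_le_right)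
  obtain ⟨S₀, hRS⟩ := exists_sylow_ge hRp (hRI.trans inf_le_left)
  set T := (T₀ : Subgroup ↥M).map M.subtype with hT
  set S := (S₀ : Subgroup ↥H).map H.subtype with hS
  have hOH : Op' p H = ⊥ := h.Op'_eq_bot_of_ge P hA hA3 hH hAH
  have hSne : S ≠ ⊥ := by
    intro hbot
    apply hRne
    rw [eq_bot_iff, ← hbot]
    exact hRS
  have hTidx := (h.puig T₀).2.2
  have hSidx := (puig_facts h.hG hH hOH S₀ hSne).2.2
  have hRidx : ¬ p ∣ R.index := by
    by_cases hRT' : R = T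
    · rw [hRT']; exact hTidx
    · have hN := normalizer_le_of_ne_sylow h.hG h.hM hAne hH hAH hHM hmax R₀ hAR
        (T₀.isPGroup'.map _) (Subgroup.map_subtype_le _) hRT hRT'
      have hRS' : R = S := eq_sylow_of_normalizer_le h.hG h.hM hAne hH hAH hHM hmax R₀ hAR hN
        (S₀.isPGroup'.map _) (Subgroup.map_subtype_le _) hRS
      rw [hRS']; exact hSidx
  exact hHM (coatom_eq_of_common_sylow h.hG hH h.hM hOH h.Op'_M_eq_bot hRp hRidx hRne
    (hRI.trans inf_le_left) (hRI.trans inf_le_right))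

/-- **BG Theorem 8.1(b)** -/
theorem thm81b (h : H81b M p) [hpf : Fact p.Prime] (P : Sylow p ↥M) :
    ¬ p ∣ ((P : Subgroup ↥M).map M.subtype).index ∧
      ∀ A : Subgroup G, Cfsg.IsSCN ((P : Subgroup ↥M).map M.subtype) A →
        ¬ Cfsg.PRankLE p 2 ↥A → A ≤ Cfsg.fittingOf M ∧ Cfsg.InUniqueMaximal A := by
  refine ⟨(h.puig P).2.2, fun A hA hA3 => ⟨h.scn_le_F P hA, ?_⟩⟩
  exact inUniqueMaximal_of_forall h.hM (h.scn_le_M P hA)
    (fun H hH hAH => h.scn_unique P hA hA3 hH hAH)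

end H81b

/-- **BG Theorem 8.1** -/
theorem thm81 (hG : Cfsg.IsMinSimpleOddOrder G)
    (M : Subgroup G) (hM : IsCoatom M) (p : ℕ) [Fact p.Prime] (A₀ : Subgroup G)
    (hA₀ : A₀ ≤ Cfsg.fittingOf M) (hA₀e : Cfsg.IsElementaryAbelian p A₀)
    (hA₀3 : p ^ 3 ≤ Nat.card A₀) :
    (¬ IsPGroup p ↥(Cfsg.fittingOf M) →
        Cfsg.InUniqueMaximal (Cfsg.fittingOf M ⊓ Subgroup.centralizer (A₀ : Set G))) ∧
      (IsPGroup p ↥(Cfsg.fittingOf M) → ∀ P : Sylow p M,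
        ¬ p ∣ ((P : Subgroup M).map M.subtype).index ∧
        ∀ A : Subgroup G, Cfsg.IsSCN ((P : Subgroup M).map M.subtype) A →
          ¬ Cfsg.PRankLE p 2 ↥A → A ≤ Cfsg.fittingOf M ∧ Cfsg.InUniqueMaximal A) := by
  have h : H81 M p A₀ := ⟨hG, hM, Fact.out, hA₀, hA₀e, hA₀3⟩
  refine ⟨fun hnp => h.thm81a hnp, fun hF P => ?_⟩
  have hb : H81b M p := ⟨hG, hM, Fact.out, hF, fun hbot => h.A₀_ne_bot (by
    rw [eq_bot_iff, ← hbot]; exact hA₀)⟩
  exact hb.thm81b P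

end Cfsg.Agent.H2.BGU
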