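import Mathlib
import Cfsg.Agent.H2.BGU.T81b3
import Cfsg.Agent.Lib.Helper4.BGUniqD
import Cfsg.Agent.S0058
import Cfsg.Agent.S1451

/-!
# BG Lemma 9.1, preliminaries
-/

set_option autoImplicit false
set_option linter.unusedVariables false
set_option linter.unusedSectionVars false
set_option linter.style.haveILetI false

open scoped commutatorElement Pointwise

namespace Cfsg.Agent.H2.BGU

open Cfsg Cfsg.Agent.Lib.Helper4.ThreeStep Cfsg.Agent.Lib.Lead.Conj Cfsg.Agent.Lib.Lead.PiCore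
  Cfsg.Agent.Lib.Helper4.BGTrans Cfsg.Agent.Lib.Helper4.Puig

universe u

variable {G : Type u} [Group G] [Finite G]

/-- a `p'`-subgroup of `M` normalized by a Sylow `p`-subgroup of the solvable group `M` lies in `O_{p'}(M)` -/
theorem le_Op'_of_sylow_invariant {M : Subgroup G} [Group.IsSolvable ↥M] {p : ℕ} [hp : Fact p.Prime]
    (hp2 : p ≠ 2) (T₀ : Sylow p ↥M) {K : Subgroup G} (hKM : K ≤ M)
    (hKp : p.Coprime (Nat.card ↥K))
    (hTK : (T₀ : Subgroup ↥M).map M.subtype ≤ Subgroup.normalizer (K : Set G)) :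
    K ≤ Op' p M := by
  have hXc : Cfsg.IsPConstrained p ↥M :=
    Cfsg.Agent.Lib.Lead.PSolvable.IsPSolvable.isPConstrained
      (Cfsg.Agent.Lib.Helper4.SolvPSolv.isPSolvable_of_isSolvable p ↥M)
  have hΩ : ∀ x ∈ Subgroup.centralizer ((T₀ : Subgroup ↥M) : Set ↥M), orderOf x = p →
      x ∈ (T₀ : Subgroup ↥M) := by
    intro x hx hxo
    have hz : IsPGroup p ↥(Subgroup.zpowers x) := by
      apply IsPGroup.of_card (n := 1)
      rw [Nat.card_zpowers, hxo, pow_one]
    have h1 := hz.inf_normalizer_sylow T₀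
    have h2 : x ∈ Subgroup.zpowers x ⊓ Subgroup.normalizer ((T₀ : Subgroup ↥M) : Set ↥M) :=
      ⟨Subgroup.mem_zpowers x, Subgroup.centralizer_le_normalizer _ hx⟩
    have h3 : x ∈ Subgroup.zpowers x ⊓ (T₀ : Subgroup ↥M) := h1 ▸ h2
    exact h3.2
  have hY' : ¬ p ∣ Nat.card ↥(K.subgroupOf M) := by
    rw [Nat.card_congr (Subgroup.subgroupOfEquivOfLe hKM).toEquiv]
    exact (Nat.Prime.coprime_iff_not_dvd hp.out).mp hKp
  have hAY' : (T₀ : Subgroup ↥M) ≤
      Subgroup.normalizer ((K.subgroupOf M : Subgroup ↥M) : Set ↥M) := by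
    intro a ha
    rw [Subgroup.mem_normalizer_iff]
    intro h
    rw [Subgroup.mem_subgroupOf, Subgroup.mem_subgroupOf]
    exact Subgroup.mem_normalizer_iff.mp (hTK (Subgroup.mem_map_of_mem _ ha)) (h : G)
  have hle := Cfsg.Agent.Lib.Helper4.PQOmega.le_pPrimeCore_of_invariant hp2 hXc
    (T₀ : Subgroup ↥M) T₀.isPGroup' hΩ (K.subgroupOf M) hY' hAY'
  rw [Op'_prime_eq hp.out]
  intro y hy
  exact ⟨⟨y, hKM hy⟩, hle (Subgroup.mem_subgroupOf.mpr hy), rfl⟩

/-- `H = H' N_H(S)` for a Sylow subgroup `S` of `H` -/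
theorem commutator_sup_normalizer_sylow {X : Type*} [Group X] [Finite X] {p : ℕ} [Fact p.Prime]
    (S : Sylow p X) : commutator X ⊔ Subgroup.normalizer ((S : Subgroup X) : Set X) = ⊤ := by
  set K : Subgroup X := commutator X ⊔ (S : Subgroup X) with hK
  haveI hKn : K.Normal := by
    refine ⟨fun k hk g => ?_⟩
    have h1 : g * k * g⁻¹ * k⁻¹ ∈ commutator X := by
      rw [commutator_def]
      exact Subgroup.commutator_mem_commutator (Subgroup.mem_top g) (Subgroup.mem_top k)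
    have e : g * k * g⁻¹ = (g * k * g⁻¹ * k⁻¹) * k := by group
    rw [e]
    exact K.mul_mem ((le_sup_left : commutator X ≤ K) h1) hk
  have hSK : (S : Subgroup X) ≤ K := le_sup_right
  have h1 := Sylow.normalizer_sup_eq_top (S.subtype hSK)
  have h2 : ((S.subtype hSK : Sylow p ↥K) : Subgroup ↥K).map K.subtype = (S : Subgroup X) := by
    rw [Sylow.coe_subtype]
    exact Subgroup.map_subgroupOf_eq_of_le hSK
  rw [h2] at h1
  rw [eq_top_iff, ← h1]
  refine sup_le le_sup_right (sup_le le_sup_left ?_)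
  exact Subgroup.le_normalizer.trans le_sup_right

/-- **Corollary of Theorem 8.1**: `F(H)` lies in a unique maximal subgroup if it has rank `≥ 3` -/
theorem fitting_uniqueness (hG : Cfsg.IsMinSimpleOddOrder G) {H : Subgroup G} (hH : IsCoatom H)
    (hr : ¬ Cfsg.RankLE 2 ↥(Cfsg.fittingOf H)) : Cfsg.InUniqueMaximal (Cfsg.fittingOf H) := by
  unfold Cfsg.RankLE at hr
  push Not at hr
  obtain ⟨q, hq, hq3⟩ := hr
  haveI := Fact.mk hq
  obtain ⟨E, hEF, hEe, hEcard⟩ := exists_elementary_of_not_pRankLE hq3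
  have hFtop : Cfsg.fittingOf H ≠ ⊤ := ne_top_of_le_coatom hH (fittingOf_le H)
  obtain ⟨ha, hb⟩ := thm81 hG H hH q E hEF hEe hEcard
  by_cases hqF : IsPGroup q ↥(Cfsg.fittingOf H)
  · obtain ⟨Q₀⟩ : Nonempty (Sylow q ↥H) := inferInstance
    have h81b : H81b H q := ⟨hG, hH, hq, hqF, fun hbot => by
      have h1 : E = ⊥ := by rw [eq_bot_iff, ← hbot]; exact hEF
      rw [h1, Subgroup.card_bot] at hEcard
      have : 1 < q ^ (2 + 1) := Nat.one_lt_pow (by norm_num) hq.one_lt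
      omega⟩
    set Q' := (Q₀ : Subgroup ↥H).map H.subtype with hQ'
    have hQ'p : IsPGroup q ↥Q' := Q₀.isPGroup'.map _
    have hQ'3 : ¬ Cfsg.PRankLE q 2 ↥Q' :=
      not_pRankLE_of_elementary hq (hEF.trans (h81b.F_le_sylow Q₀)) hEe hEcard
    obtain ⟨A, hA, hA3⟩ := Cfsg.Agent.Lib.Helper4.BGUniq.exists_isSCN h81b.p_ne_two hQ'p hQ'3
    obtain ⟨hAF, hAU⟩ := (hb hqF Q₀).2 A hA hA3
    exact InUniqueMaximal.mono hAU hAF hFtop
  · exact InUniqueMaximal.mono (ha hqF) inf_le_left hFtop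

end Cfsg.Agent.H2.BGU
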