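import Mathlib
import Cfsg.Agent.H2.BGU.L91a
import Cfsg.Agent.Lib.Helper4.Rank2Fit

/-!
# BG Lemma 9.1
-/

set_option autoImplicit false
set_option linter.unusedVariables false
set_option linter.unusedSectionVars false
set_option linter.style.haveILetI false

open scoped commutatorElement Pointwise

namespace Cfsg.Agent.H2.BGU

open Cfsg Cfsg.Agent.Lib.Helper4.ThreeStep Cfsg.Agent.Lib.Lead.Conj Cfsg.Agent.Lib.Lead.PiCore
  Cfsg.Agent.Lib.Helper4.BGTrans Cfsg.Agent.Lib.Helper4.Puig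

universe u

variable {G : Type u} [Group G] [Finite G]

theorem normal_pgroup_le_sylow {H Y : Subgroup G} {p : ℕ} [Fact p.Prime] (S₀ : Sylow p ↥H)
    (hYH : Y ≤ H) (hn : H ≤ Subgroup.normalizer (Y : Set G)) (hY : IsPGroup p ↥Y) :
    Y ≤ (S₀ : Subgroup ↥H).map H.subtype := by
  haveI h1 : (Y.subgroupOf H).Normal := Subgroup.normal_subgroupOf_of_le_normalizer hn
  have h2 : IsPGroup p ↥(Y.subgroupOf H) := hY.comap_subtype
  have h3 := h2.le_sylow_of_normal S₀
  intro y hy
  exact ⟨⟨y, hYH hy⟩, h3 (Subgroup.mem_subgroupOf.mpr hy), rfl⟩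

theorem map_normalizer_sylow_le {H : Subgroup G} {p : ℕ} [Fact p.Prime] (S₀ : Sylow p ↥H)
    {x : ↥H} (hx : x ∈ Subgroup.normalizer ((S₀ : Subgroup ↥H) : Set ↥H)) :
    (x : G) ∈ Subgroup.normalizer (((S₀ : Subgroup ↥H).map H.subtype : Subgroup G) : Set G) := by
  apply mem_normalizer_of_conj_mem
  rintro _ ⟨s, hs, rfl⟩
  exact ⟨x * s * x⁻¹, (Subgroup.mem_normalizer_iff.mp hx s).mp hs, rfl⟩

/-- **BG Lemma 9.1**, form (b) -/
theorem lemma91b (hG : Cfsg.IsMinSimpleOddOrder G) {M : Subgroup G} (hM : IsCoatom M) {p : ℕ}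
    [hp : Fact p.Prime] {B : Subgroup G} (hBM : B ≤ M) (hBp : IsPGroup p ↥B) (hBne : B ≠ ⊥)
    (hb : ∀ Y ∈ Cfsg.invSubgroups ⊤ B (Cfsg.primesNotDvd p), Y ≤ M) :
    Cfsg.InUniqueMaximal B := by
  have hp2 : p ≠ 2 := by
    rintro rfl
    have h2 : 2 ∣ Nat.card G :=
      (dvd_card_of_ne_bot_of_isPGroup hBp hBne).trans (Subgroup.card_subgroup_dvd_card B)
    exact (Nat.not_even_iff_odd.mpr hG.1) (even_iff_two_dvd.mpr h2)
  refine inUniqueMaximal_of_forall hM hBM (fun H₀ hH₀ hBH₀ => ?_)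
  by_contra hne
  obtain ⟨H, hH, hBH, hHM, hmax⟩ := exists_max_inter (M := M) p hH₀ hBH₀ hne
  haveI : Group.IsSolvable ↥M := solvable_of_le_coatom hG hM le_rfl
  haveI : Group.IsSolvable ↥H := solvable_of_le_coatom hG hH le_rfl
  obtain ⟨R₀, hBR⟩ := exists_sylow_ge hBp (le_inf hBH hBM)
  set R := (R₀ : Subgroup ↥(H ⊓ M)).map (H ⊓ M).subtype with hR
  have hRp : IsPGroup p ↥R := R₀.isPGroup'.map _
  have hRI : R ≤ H ⊓ M := Subgroup.map_subtype_le _
  obtain ⟨T₀, hRT⟩ := exists_sylow_ge hRp (hRI.trans inf_le_right)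
  obtain ⟨S₀, hRS⟩ := exists_sylow_ge hRp (hRI.trans inf_le_left)
  set T := (T₀ : Subgroup ↥M).map M.subtype with hT
  set S := (S₀ : Subgroup ↥H).map H.subtype with hS
  have hTM : T ≤ M := Subgroup.map_subtype_le _
  have hTne : T ≠ ⊥ := by
    intro hbot
    apply hBne
    rw [eq_bot_iff, ← hbot]
    exact hBR.trans hRT
  -- Step 2
  have hOH : Op' p H ≤ M :=
    hb _ (mem_invSubgroups_top.mpr ⟨(isPiNat_primesNotDvd_iff p _).mpr (coprime_card_Op' p H),
      hBH.trans (le_normalizer_Op' p H)⟩)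
  -- Step 3
  have key3 : ∀ K : Subgroup G, p.Coprime (Nat.card ↥K) → T ≤ Subgroup.normalizer (K : Set G) →
      K ≤ Op' p M := by
    intro K hKp hTK
    have hKM : K ≤ M := hb K (mem_invSubgroups_top.mpr
      ⟨(isPiNat_primesNotDvd_iff p _).mpr hKp, (hBR.trans hRT).trans hTK⟩)
    exact le_Op'_of_sylow_invariant hp2 T₀ hKM hKp hTK
  -- Step 4
  have hNT : Subgroup.normalizer (T : Set G) ≤ M := by
    by_cases hO : Op' p M = ⊥
    · exact (puig_facts hG hM hO T₀ hTne).2.1
    · intro g hg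
      set K := (Op' p M).map (MulAut.conj g).toMonoidHom with hK
      have hK1 : T ≤ Subgroup.normalizer (K : Set G) :=
        le_normalizer_map_conj_of_normalizer (hTM.trans (le_normalizer_Op' p M)) hg
      have hK2 : p.Coprime (Nat.card ↥K) := by
        rw [hK, card_map_conj']
        exact coprime_card_Op' p M
      have hK3 := key3 K hK2 hK1
      have hgN : g ∈ Subgroup.normalizer (Op' p M : Set G) := by
        apply mem_normalizer_of_conj_mem
        intro x hx
        exact hK3 (conj_mem_map_conj _ g hx)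
      rw [normalizer_eq_coatom hG hM hO (Op'_le p M) (le_normalizer_Op' p M)] at hgN
      exact hgN
  -- Step 5
  have hNR : Subgroup.normalizer (R : Set G) ≤ M := by
    by_cases hRT' : R = T
    · rw [hRT']; exact hNT
    · exact normalizer_le_of_ne_sylow hG hM hBne hH hBH hHM hmax R₀ hBR
        (T₀.isPGroup'.map _) hTM hRT hRT'
  have hRS' : R = S := eq_sylow_of_normalizer_le hG hM hBne hH hBH hHM hmax R₀ hBR hNR
    (S₀.isPGroup'.map _) (Subgroup.map_subtype_le _) hRS
  have hSM : S ≤ M := by rw [← hRS']; exact hRI.trans inf_le_right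
  have hNS : Subgroup.normalizer (S : Set G) ≤ M := by rw [← hRS']; exact hNR
  -- Step 6
  have hFM : Cfsg.fittingOf H ≤ M := by
    apply le_of_forall_Oq_le (fittingOf_nilpotent H)
    intro q hq
    by_cases hqp : q = p
    · subst hqp
      refine le_trans ?_ hSM
      exact normal_pgroup_le_sylow S₀ ((Oq_le q _).trans (fittingOf_le H))
        (le_normalizer_Oq_fittingOf q H) (isPGroup_Oq hq _)
    · exact (Oq_le_Op' hp.out hq hqp (fittingOf_le H) (le_normalizer_fittingOf H)).trans hOH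
  -- Step 7
  by_cases hr : Cfsg.RankLE 2 ↥(Cfsg.fittingOf H)
  · have hr' : Cfsg.RankLE 2 ↥(Cfsg.fittingSubgroup ↥H) := fun q hq =>
      Cfsg.Agent.Lib.Helper4.Rank2Fit.pRankLE_of_injective
        ((Cfsg.fittingSubgroup ↥H).equivMapOfInjective H.subtype H.subtype_injective).toMonoidHom
        ((Cfsg.fittingSubgroup ↥H).equivMapOfInjective H.subtype H.subtype_injective).injective
        (hr q hq)
    have hnil := (Cfsg.Agent.S1451.result (G := ↥H) (odd_card_subgroup hG H) (Or.inr hr')).1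
    have hcF : commutator ↥H ≤ Cfsg.fittingSubgroup ↥H :=
      Cfsg.Agent.H1.le_fittingSubgroup inferInstance hnil
    have htop := commutator_sup_normalizer_sylow S₀
    have hle : commutator ↥H ⊔ Subgroup.normalizer ((S₀ : Subgroup ↥H) : Set ↥H) ≤
        M.subgroupOf H := by
      refine sup_le ?_ ?_
      · intro x hx
        rw [Subgroup.mem_subgroupOf]
        exact hFM (mem_fittingOf_iff.mpr ⟨x.2, hcF hx⟩)
      · intro x hx
        rw [Subgroup.mem_subgroupOf]
        exact hNS (map_normalizer_sylow_le S₀ hx)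
    rw [htop] at hle
    have hHleM : H ≤ M := by
      intro x hx
      have := hle (Subgroup.mem_top (⟨x, hx⟩ : ↥H))
      exact Subgroup.mem_subgroupOf.mp this
    exact hHM ((hH.le_iff_eq hM.1).mp hHleM).symm
  · obtain ⟨N, -, huniq⟩ := fitting_uniqueness hG hH hr
    have h1 := huniq H ⟨hH, fittingOf_le H⟩
    have h2 := huniq M ⟨hM, hFM⟩
    exact hHM (h1.trans h2.symm)

/-- **BG Lemma 9.1** -/
theorem lemma91 (hG : Cfsg.IsMinSimpleOddOrder G)
    (M : Subgroup G) (hM : IsCoatom M) (p : ℕ) [Fact p.Prime] (B : Subgroup G) (hBM : B ≤ M)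
    (hBe : Cfsg.IsElementaryAbelian p B) (hBnc : ¬ IsCyclic B)
    (h : (∀ b ∈ B, b ≠ 1 → Subgroup.centralizer ({b} : Set G) ≤ M) ∨
      ∀ Y ∈ Cfsg.invSubgroups ⊤ B (Cfsg.primesNotDvd p), Y ≤ M) :
    Cfsg.InUniqueMaximal B := by
  have hBp : IsPGroup p ↥B := isPGroup_of_elementary hBe
  have hBne : B ≠ ⊥ := by
    rintro rfl
    apply hBnc
    exact isCyclic_of_subsingleton
  apply lemma91b hG hM hBM hBp hBne
  rcases h with ha | hb
  · intro Y hY
    rw [mem_invSubgroups_top] at hY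
    haveI := hBe.1
    have hcop : (Nat.card ↥B).Coprime (Nat.card ↥Y) := by
      obtain ⟨k, hk⟩ := hBp.exists_card_eq
      rw [hk]
      exact Nat.Coprime.pow_left k ((isPiNat_primesNotDvd_iff p _).mp hY.1)
    have h58 := Cfsg.Agent.S0058.result B Y hBnc hY.2 hcop
    rw [← h58]
    apply iSup_le
    intro a
    apply iSup_le
    intro haB
    exact inf_le_right.trans (ha a haB.1 haB.2)
  · exact hb

end Cfsg.Agent.H2.BGU
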