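import Mathlib
import Cfsg.Agent.H2.BGU.L91b
import Cfsg.Agent.S1324
import Cfsg.Agent.S1449
import Cfsg.Agent.H1.CoprimeHallContain

/-!
# BG Lemma 9.5, general lemmas
-/

set_option autoImplicit false
set_option linter.unusedVariables false
set_option linter.unusedSectionVars false
set_option linter.style.haveILetI false

open scoped commutatorElement Pointwise

namespace Cfsg.Agent.H2.BGU

open Cfsg Cfsg.Agent.Lib.Helper4.ThreeStep Cfsg.Agent.Lib.Lead.Conj Cfsg.Agent.Lib.Lead.PiCore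
  Cfsg.Agent.Lib.Helper4.BGTrans Cfsg.Agent.Lib.Helper4.Puig

universe u

variable {G : Type u} [Group G] [Finite G]

/-- rank three: a common nonidentity element whose fixed points escape two given subgroups -/
theorem exists_not_le_of_rank_three {p : ℕ} [hp : Fact p.Prime] {E Q₁ Q₂ X₁ X₂ : Subgroup G}
    (hE : Cfsg.IsElementaryAbelian p E) (hcard : p ^ 3 ≤ Nat.card ↥E)
    (hEQ₁ : E ≤ Subgroup.normalizer (Q₁ : Set G)) (hEQ₂ : E ≤ Subgroup.normalizer (Q₂ : Set G))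
    (hpQ₁ : ¬ p ∣ Nat.card ↥Q₁) (hpQ₂ : ¬ p ∣ Nat.card ↥Q₂) (hQ₁ : ¬ Q₁ ≤ X₁) (hQ₂ : ¬ Q₂ ≤ X₂) :
    ∃ b ∈ E, b ≠ 1 ∧ ¬ Q₁ ⊓ Subgroup.centralizer ({b} : Set G) ≤ X₁ ∧
      ¬ Q₂ ⊓ Subgroup.centralizer ({b} : Set G) ≤ X₂ := by
  have hp1 := hp.out.one_lt
  have hcard2 : p ^ 2 ≤ Nat.card ↥E := by
    refine le_trans ?_ hcard
    exact Nat.pow_le_pow_right hp.out.pos (by norm_num)
  have h := Cfsg.Agent.S1324.result p E Q₁ hE hcard2 hpQ₁ hEQ₁
  obtain ⟨⟨B, hBE, hBidx⟩, hB⟩ : ∃ B : {B : Subgroup G // B ≤ E ∧ B.relIndex E ≤ p},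
      ¬ Q₁ ⊓ Subgroup.centralizer ((B : Subgroup G) : Set G) ≤ X₁ := by
    by_contra hcon
    push Not at hcon
    apply hQ₁
    rw [h]
    apply iSup_le
    intro B
    exact hcon B
  have hBel : Cfsg.IsElementaryAbelian p B := by
    haveI := hE.1
    refine ⟨⟨⟨fun x y => ?_⟩⟩, fun b hb => hE.2 b (hBE hb)⟩
    have := hE.1.is_comm.comm ⟨x, hBE x.2⟩ ⟨y, hBE y.2⟩
    apply Subtype.ext
    have h2 := congrArg Subtype.val this
    simpa using h2
  have hBcard : p ^ 2 ≤ Nat.card ↥B := by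
    have h1 := Cfsg.Agent.Lib.Helper4.TypeP.card_mul_relIndex_of_le hBE
    have h2 : p ^ 3 ≤ Nat.card ↥B * p := by
      rw [← h1] at hcard
      exact hcard.trans (Nat.mul_le_mul_left _ hBidx)
    have h3 : p ^ 3 = p ^ 2 * p := by ring
    rw [h3] at h2
    exact Nat.le_of_mul_le_mul_right h2 hp.out.pos
  haveI := hBel.1
  have hcop : (Nat.card ↥B).Coprime (Nat.card ↥Q₂) := by
    obtain ⟨m, hm⟩ := (isPGroup_of_elementary hBel).exists_card_eq
    rw [hm]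
    exact Nat.Coprime.pow_left m ((Nat.Prime.coprime_iff_not_dvd hp.out).mpr hpQ₂)
  have h58 := Cfsg.Agent.S0058.result B Q₂ (not_isCyclic_of_elementary hBel hBcard)
    (hBE.trans hEQ₂) hcop
  obtain ⟨b, hbB, hb1, hb⟩ : ∃ b ∈ B, b ≠ 1 ∧ ¬ Q₂ ⊓ Subgroup.centralizer ({b} : Set G) ≤ X₂ := by
    by_contra hcon
    push Not at hcon
    apply hQ₂
    rw [← h58]
    apply iSup₂_le
    intro a ha
    exact hcon a ha.1 ha.2
  refine ⟨b, hBE hbB, hb1, ?_, hb⟩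
  intro h0
  apply hB
  refine le_trans (inf_le_inf_left _ ?_) h0
  apply Subgroup.centralizer_le
  intro x hx
  rw [Set.mem_singleton_iff] at hx
  subst hx
  exact hbB

/-- an odd-order `r'`-group acting on an `r`-group of rank at most two acts through an abelian group -/
theorem commutator_le_centralizer_of_rank_two {r : ℕ} [hr : Fact r.Prime] (hr2 : r ≠ 2)
    {R Γ : Subgroup G} (hR : IsPGroup r ↥R) (hrk : Cfsg.PRankLE r 2 ↥R)
    (hΓ : Γ ≤ Subgroup.normalizer (R : Set G)) (hodd : Odd (Nat.card ↥Γ))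
    (hcop : (Nat.card ↥Γ).Coprime r) :
    ⁅Γ, Γ⁆ ≤ Subgroup.centralizer (R : Set G) := by
  set c := Cfsg.Agent.Lib.Helper4.Rank2Aut.conjHom R Γ hΓ with hc
  have hdvd : Nat.card ↥c.range ∣ Nat.card ↥Γ := Subgroup.card_range_dvd c
  have hodd' : Odd (Nat.card ↥c.range) := by
    obtain ⟨k, hk⟩ := hdvd
    rw [hk] at hodd
    exact (Nat.odd_mul.mp hodd).1
  have hcore := Cfsg.Agent.Lib.Helper4.Rank2Aut.isPGroup_commutator hr2 hR hrk c.range hodd'
  rw [Subgroup.commutator_le]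
  intro x hx y hy
  set g : ↥Γ := ⁅(⟨x, hx⟩ : ↥Γ), ⟨y, hy⟩⁆ with hg
  have hmem : c.rangeRestrict g ∈ commutator ↥c.range := by
    rw [hg, map_commutatorElement]
    exact Subgroup.commutator_mem_commutator (Subgroup.mem_top _) (Subgroup.mem_top _)
  obtain ⟨k, hk⟩ := hcore ⟨_, hmem⟩
  have h2 := congrArg (fun w : ↥(commutator ↥c.range) => ((w : ↥c.range) : MulAut ↥R)) hk
  simp only [Subgroup.coe_pow, Subgroup.coe_one] at h2
  have h3 : (c g) ^ r ^ k = 1 := h2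
  have h4 : (c g) ^ Nat.card ↥Γ = 1 := by
    rw [← map_pow, pow_card_eq_one', map_one]
  have h5 : c g = 1 :=
    Cfsg.Agent.Lib.Helper4.Rank2Fit.eq_one_of_pow_pow_coprime h4 h3 (Nat.Coprime.pow_right k hcop)
  have hgx : (g : G) = ⁅x, y⁆ := by
    rw [hg]
    simp [commutatorElement_def]
  rw [← hgx, Subgroup.mem_centralizer_iff]
  intro t ht
  have h6 := congrArg (fun σ : MulAut ↥R => ((σ ⟨t, ht⟩ : ↥R) : G)) h5
  simp only [hc, Cfsg.Agent.Lib.Helper4.Rank2Aut.conjHom_apply, MulAut.one_apply] at h6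
  rw [mul_inv_eq_iff_eq_mul] at h6
  exact h6.symm

end Cfsg.Agent.H2.BGU
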