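import Mathlib
import Cfsg.Agent.H2.BGU.L95a

/-!
# BG Lemma 9.5, general lemmas II: Sylow towers in rank two
-/

set_option autoImplicit false
set_option linter.unusedVariables false
set_option linter.unusedSectionVars false
set_option linter.style.haveILetI false

open scoped commutatorElement Pointwise

namespace Cfsg.Agent.H2.BGU

open Cfsg Cfsg.Agent.Lib.Helper4.ThreeStep Cfsg.Agent.Lib.Lead.Conj Cfsg.Agent.Lib.Lead.PiCore
  Cfsg.Agent.Lib.Helper4.BGTrans Cfsg.Agent.Lib.Helper4.Puig

universe u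

/-- the `q`-rank of a finite group is the `q`-rank of a Sylow `q`-subgroup -/
theorem pRankLE_of_sylow {X : Type*} [Group X] [Finite X] {q k : ℕ} [hq : Fact q.Prime]
    (P : Sylow q X) (h : Cfsg.PRankLE q k ↥(P : Subgroup X)) : Cfsg.PRankLE q k X := by
  intro B hBc hBe
  have hBp : IsPGroup q ↥B := by
    intro b
    refine ⟨1, ?_⟩
    rw [pow_one]
    exact Subtype.ext (by simpa using hBe b b.2)
  obtain ⟨Q, hBQ⟩ := hBp.exists_le_sylow
  obtain ⟨g, hg⟩ := MulAction.exists_smul_eq X Q P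
  have hmem : ∀ b : ↥B, g * (b : X) * g⁻¹ ∈ (P : Subgroup X) := by
    intro b
    have h1 : (b : X) ∈ (Q : Subgroup X) := hBQ b.2
    have h2 : MulAut.conj g • (b : X) ∈ MulAut.conj g • (Q : Subgroup X) :=
      Subgroup.smul_mem_pointwise_smul _ _ _ h1
    rw [← Sylow.coe_subgroup_smul, hg] at h2
    simpa using h2
  let f : ↥B →* ↥(P : Subgroup X) :=
    { toFun := fun b => ⟨g * (b : X) * g⁻¹, hmem b⟩
      map_one' := by apply Subtype.ext; simp
      map_mul' := fun a b => by apply Subtype.ext; simp }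
  have hf : Function.Injective f := by
    intro a b hab
    have := congrArg (fun w : ↥(P : Subgroup X) => (w : X)) hab
    simp only [f, MonoidHom.coe_mk, OneHom.coe_mk] at this
    apply Subtype.ext
    exact mul_left_cancel (mul_right_cancel this)
  have h1 := Cfsg.Agent.Lib.Helper4.Rank2Fit.pRankLE_of_injective f hf h
  have h2 := h1 ⊤ (by
    haveI := hBc
    refine ⟨⟨fun x y => ?_⟩⟩
    apply Subtype.ext
    exact hBc.is_comm.comm x.1 y.1) (by
    intro a _
    apply Subtype.ext
    simpa using hBe a a.2)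
  rwa [Subgroup.card_top] at h2

variable {G : Type u} [Group G] [Finite G]

/-- a Hall `{r}`-subgroup of `W`, as a Sylow subgroup of `↥W` -/
theorem exists_sylow_of_hall {W Ur : Subgroup G} {r : ℕ} [hr : Fact r.Prime]
    (hUr : Cfsg.IsPiHallOf {r} Ur W) :
    ∃ P : Sylow r ↥W, (P : Subgroup ↥W) = Ur.subgroupOf W := by
  have hp : IsPGroup r ↥(Ur.subgroupOf W) :=
    (isPGroup_of_isPiNat hr.out hUr.2.1).comap_subtype
  have hidx : ¬ r ∣ (Ur.subgroupOf W).index := hUr.2.2 r hr.out rfl
  exact ⟨hp.toSylow hidx, IsPGroup.toSylow_coe _ _⟩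

/-- a `{r,s}`-group of odd order whose Sylow subgroups have rank at most two has a normal Sylow
subgroup for the larger prime -/
theorem sylow_normal_of_rank_two {W Ur Us : Subgroup G} {r s : ℕ} [hr : Fact r.Prime]
    [hs : Fact s.Prime] (hsr : s < r) (hWodd : Odd (Nat.card ↥W)) (hWs : Group.IsSolvable ↥W)
    (hW : ∀ q : ℕ, q.Prime → q ∣ Nat.card ↥W → q = r ∨ q = s)
    (hUr : Cfsg.IsPiHallOf {r} Ur W) (hUs : Cfsg.IsPiHallOf {s} Us W)
    (hrr : Cfsg.PRankLE r 2 ↥Ur) (hrs : Cfsg.PRankLE s 2 ↥Us) :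
    W ≤ Subgroup.normalizer (Ur : Set G) := by
  obtain ⟨Pr, hPr⟩ := exists_sylow_of_hall hUr
  obtain ⟨Ps, hPs⟩ := exists_sylow_of_hall hUs
  have hrank : Cfsg.RankLE 2 ↥W := by
    intro q hq
    haveI := Fact.mk hq
    by_cases hqr : q = r
    · subst hqr
      apply pRankLE_of_sylow Pr
      rw [hPr]
      exact Cfsg.Agent.Lib.Helper4.Rank2Fit.pRankLE_of_injective
        (Subgroup.subgroupOfEquivOfLe hUr.1).toMonoidHom (Subgroup.subgroupOfEquivOfLe hUr.1).injective hrr
    · by_cases hqs : q = s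
      · subst hqs
        apply pRankLE_of_sylow Ps
        rw [hPs]
        exact Cfsg.Agent.Lib.Helper4.Rank2Fit.pRankLE_of_injective
          (Subgroup.subgroupOfEquivOfLe hUs.1).toMonoidHom (Subgroup.subgroupOfEquivOfLe hUs.1).injective hrs
      · intro B hBc hBe
        have hBp : IsPGroup q ↥B := by
          intro b
          refine ⟨1, ?_⟩
          rw [pow_one]
          exact Subtype.ext (by simpa using hBe b b.2)
        obtain ⟨m, hm⟩ := hBp.exists_card_eq
        have hm0 : m = 0 := by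
          by_contra hne
          have h1 : q ∣ Nat.card ↥B := hm ▸ dvd_pow_self q hne
          rcases hW q hq (h1.trans (Subgroup.card_subgroup_dvd_card B)) with h | h
          · exact hqr h
          · exact hqs h
        rw [hm, hm0, pow_zero]
        exact Nat.one_le_pow _ _ hq.pos
  obtain ⟨N, hNc, hN1, hN2⟩ :=
    (Cfsg.Agent.S1451.result (G := ↥W) hWodd (Or.inl hrank)).2.2 s
  haveI := hNc
  have hNp : IsPGroup r ↥N := by
    apply isPGroup_of_isPiNat hr.out
    intro q hq hqd
    rcases hW q hq (hqd.trans (Subgroup.card_subgroup_dvd_card N)) with h | h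
    · exact h
    · exact absurd (hN1 q hq hqd).2 (by rw [h]; exact lt_irrefl s)
  have hNidx : ¬ r ∣ N.index := hN2 r hr.out ⟨hr.out, hsr⟩
  set PN := hNp.toSylow hNidx with hPN
  have hPNn : (PN : Subgroup ↥W).Normal := by
    rw [hPN, IsPGroup.toSylow_coe]
    infer_instance
  haveI := Sylow.unique_of_normal PN hPNn
  have heq : Pr = PN := Subsingleton.elim _ _
  have hnorm : (Ur.subgroupOf W).Normal := by
    rw [← hPr, heq]
    exact hPNn
  exact (Subgroup.normal_subgroupOf_iff_le_normalizer hUr.1).mp hnorm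

/-- a Hall `{r}`-subgroup is a maximal `r`-subgroup -/
theorem eq_of_hall_le {W Ur T : Subgroup G} {r : ℕ} [hr : Fact r.Prime]
    (hUr : Cfsg.IsPiHallOf {r} Ur W) (hT : IsPGroup r ↥T) (hTW : T ≤ W) (hle : Ur ≤ T) :
    T = Ur := by
  obtain ⟨P, hP⟩ := exists_sylow_of_hall hUr
  have h1 : (P : Subgroup ↥W) ≤ T.subgroupOf W := by
    rw [hP]
    intro x hx
    rw [Subgroup.mem_subgroupOf] at hx ⊢
    exact hle hx
  have h2 : T.subgroupOf W = (P : Subgroup ↥W) := P.3 hT.comap_subtype h1
  apply le_antisymm _ hle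
  intro t ht
  have h3 : (⟨t, hTW ht⟩ : ↥W) ∈ T.subgroupOf W := Subgroup.mem_subgroupOf.mpr ht
  rw [h2, hP] at h3
  exact Subgroup.mem_subgroupOf.mp h3

end Cfsg.Agent.H2.BGU
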