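import Mathlib
import Cfsg.Agent.H2.BGU.L95b
import Cfsg.Agent.H2.BGU.T81a3
import Cfsg.Agent.H2.BGU.T81b1
import Cfsg.Agent.S1401
import Cfsg.Agent.S0026
import Cfsg.Agent.H1.Card
import Cfsg.Agent.Lib.Helper4.BGTransE
import Cfsg.Agent.Lib.Helper4.BGUniqA

/-!
# BG Lemma 9.5, step (3): preparations
-/

set_option autoImplicit false
set_option linter.unusedVariables false
set_option linter.unusedSectionVars false
set_option linter.style.haveILetI false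

open scoped commutatorElement Pointwise

namespace Cfsg.Agent.H2.BGU

open Cfsg Cfsg.Agent.Lib.Helper4.ThreeStep Cfsg.Agent.Lib.Lead.Conj Cfsg.Agent.Lib.Lead.PiCore
  Cfsg.Agent.Lib.Helper4.BGTrans Cfsg.Agent.Lib.Helper4.Puig

universe u

variable {G : Type u} [Group G] [Finite G]

/-- a Hall subgroup of a Hall subgroup -/
theorem isPiHallOf_trans {π π' : Set ℕ} {K W M : Subgroup G} (hsub : π' ⊆ π)
    (hK : Cfsg.IsPiHallOf π' K W) (hW : Cfsg.IsPiHallOf π W M) : Cfsg.IsPiHallOf π' K M := by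
  refine ⟨hK.1.trans hW.1, hK.2.1, fun q hq hqπ hdvd => ?_⟩
  rw [← Subgroup.relIndex_mul_relIndex K W M hK.1 hW.1] at hdvd
  rcases (Nat.Prime.dvd_mul hq).mp hdvd with h | h
  · exact hK.2.2 q hq hqπ h
  · exact hW.2.2 q hq (hsub hqπ) h

theorem invSubgroups_mono_pi {X A Y : Subgroup G} {π π' : Set ℕ}
    (h : ∀ q : ℕ, q.Prime → q ∈ π → q ∈ π') (hY : Y ∈ Cfsg.invSubgroups X A π) :
    Y ∈ Cfsg.invSubgroups X A π' :=
  ⟨hY.1, fun q hq hqd => h q hq (hY.2.1 q hq hqd), hY.2.2⟩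

/-- (S): the fixed points of `b` on `O_u(F(H))` lie in every `A`-invariant Sylow `u`-subgroup of
`O_{p'}(C(b))`, when all `A`-invariant `u`-subgroups lie in `H` -/
theorem inf_centralizer_le_hall (hG : Cfsg.IsMinSimpleOddOrder G) {p : ℕ} [hp : Fact p.Prime]
    {A H : Subgroup G} (hTA : Cfsg.TransitivityHypothesis A) (hAp : IsPGroup p ↥A)
    (hAc : A ≤ Subgroup.centralizer (A : Set G))
    (hH : IsCoatom H) (hAH : A ≤ H) {u : ℕ} [hu : Fact u.Prime] (hup : u ≠ p)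
    (hinv : ∀ Q ∈ Cfsg.invSubgroups ⊤ A {u}, Q ≤ H)
    {b : G} (hbA : b ∈ A) (hb1 : b ≠ 1) {Ou : Subgroup G}
    (hOu : Cfsg.IsPiHallOf {u} Ou
      (Cfsg.piCoreOf (Cfsg.primesNotDvd (Nat.card ↥A)) (Subgroup.centralizer ({b} : Set G))))
    (hAOu : A ≤ Subgroup.normalizer (Ou : Set G)) :
    Oq u (Cfsg.fittingOf H) ⊓ Subgroup.centralizer ({b} : Set G) ≤ Ou := by
  have hCtop : Subgroup.centralizer ({b} : Set G) ≠ ⊤ :=
    Cfsg.Agent.Lib.Helper4.BGUniq.centralizer_singleton_ne_top hG hb1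
  have hbC : b ∈ Subgroup.centralizer (A : Set G) := hAc hbA
  have hOuinv : Ou ∈ Cfsg.invSubgroups ⊤ A {u} := mem_invSubgroups_top.mpr ⟨hOu.2.1, hAOu⟩
  obtain ⟨U', hU', hOuU'⟩ := exists_maxInv_ge hOuinv
  have hU'H : U' ≤ H := hinv U' hU'.1
  have hU'mem := mem_invSubgroups_top.mp hU'.1
  have hU'p : IsPGroup u ↥U' := isPGroup_of_isPiNat hu.out hU'mem.1
  have hYp : IsPGroup u ↥(Oq u (Cfsg.fittingOf H)) := isPGroup_Oq hu.out _
  have hHY : H ≤ Subgroup.normalizer (Oq u (Cfsg.fittingOf H) : Set G) :=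
    le_normalizer_Oq_fittingOf u H
  have hYU' : Oq u (Cfsg.fittingOf H) ≤ U' := by
    have hsup : U' ⊔ Oq u (Cfsg.fittingOf H) ∈ Cfsg.invSubgroups ⊤ A {u} := by
      rw [mem_invSubgroups_top]
      refine ⟨isPiNat_of_isPGroup (hU'p.to_sup_of_normal_right' hYp (hU'H.trans hHY)), ?_⟩
      exact (le_inf hU'mem.2 (hAH.trans hHY)).trans
        (Subgroup.normalizer_inf_normalizer_le_normalizer_sup _ _)
    have := hU'.2 _ hsup le_sup_left
    rw [← this]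
    exact le_sup_right
  obtain ⟨hAC, hTinv⟩ := inf_centralizer_mem_inv hbA hbC hU'.1
  have hupi : ∀ q : ℕ, q.Prime → q ∈ ({u} : Set ℕ) → q ∈ Cfsg.primesNotDvd (Nat.card ↥A) := by
    intro q hq hqu
    rw [Set.mem_singleton_iff] at hqu
    subst hqu
    refine ⟨hq, fun hdvd => ?_⟩
    obtain ⟨k, hk⟩ := hAp.exists_card_eq
    rw [hk] at hdvd
    exact hup ((Nat.prime_dvd_prime_iff_eq hq hp.out).mp (hq.dvd_of_dvd_pow hdvd))
  have hTW := le_piCoreOf_of_inv hTA hCtop hAC (invSubgroups_mono_pi hupi hTinv)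
  have hTp : IsPGroup u ↥(U' ⊓ Subgroup.centralizer ({b} : Set G)) := hU'p.to_le inf_le_left
  have hOuT : Ou ≤ U' ⊓ Subgroup.centralizer ({b} : Set G) :=
    le_inf hOuU' (hOu.1.trans (piCoreOf_le _ _))
  have heq := eq_of_hall_le hOu hTp hTW hOuT
  rw [← heq]
  exact inf_le_inf_right _ hYU'

end Cfsg.Agent.H2.BGU
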