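import Mathlib
import Cfsg.Agent.H2.BGU.L95c

/-!
# BG Lemma 9.5, step (3): the core argument
-/

set_option autoImplicit false
set_option linter.unusedVariables false
set_option linter.unusedSectionVars false
set_option linter.style.haveILetI false

open scoped commutatorElement Pointwise

namespace Cfsg.Agent.H2.BGU

open Cfsg Cfsg.Agent.Lib.Helper4.ThreeStep Cfsg.Agent.Lib.Lead.Conj Cfsg.Agent.Lib.Lead.PiCore
  Cfsg.Agent.Lib.Helper4.BGTrans Cfsg.Agent.Lib.Helper4.Puig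

universe u

variable {G : Type u} [Group G] [Finite G]

/-- a `u`-subgroup of `H` inside a proper subgroup `C ≰ H` has rank at most two, when
`O_u(F(H))` has rank at least three -/
theorem pRankLE_two_of_not_le (hG : Cfsg.IsMinSimpleOddOrder G) {H : Subgroup G} (hH : IsCoatom H)
    {r : ℕ} [hr : Fact r.Prime] (hF : ¬ Cfsg.PRankLE r 2 ↥(Oq r (Cfsg.fittingOf H)))
    {Or C : Subgroup G} (hOrH : Or ≤ H) (hOrC : Or ≤ C) (hC : C ≠ ⊤)
    (hCH : ¬ C ≤ H) : Cfsg.PRankLE r 2 ↥Or := by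
  by_contra hrk
  obtain ⟨B, hBO, hBel, hBcard⟩ := exists_elementary_of_not_pRankLE hrk
  have hF' : ¬ Cfsg.PRankLE r 2 ↥(Cfsg.fittingOf H) := fun h =>
    hF (Cfsg.Agent.Lib.Helper4.Rank2Fit.pRankLE_of_le (Oq_le r _) h)
  have hBU : Cfsg.InUniqueMaximal B :=
    Cfsg.Agent.S1401.result hG H hH r hF' B (isPGroup_of_elementary hBel) hBel.1
      (not_pRankLE_of_elementary hr.out le_rfl hBel hBcard)
  obtain ⟨M, ⟨hM, hBM⟩, huniq⟩ := hBU
  have h1 : H = M := huniq H ⟨hH, hBO.trans hOrH⟩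
  obtain ⟨M', hM', hCM'⟩ := exists_coatom_ge hC
  have h2 : M' = M := huniq M' ⟨hM', hBO.trans (hOrC.trans hCM')⟩
  apply hCH
  rw [h1, ← h2]
  exact hCM'

/-- the core of step (3) -/
theorem two_star_core (hG : Cfsg.IsMinSimpleOddOrder G) {p : ℕ} [hp : Fact p.Prime]
    {A H₀ : Subgroup G} (hAp : IsPGroup p ↥A)
    (hN₀ : ∀ Y : Subgroup G, Y ≤ Cfsg.fittingOf H₀ → Y ≠ ⊥ →
      Subgroup.normalizer (Y : Set G) ≤ H₀)
    (hC₀ : Subgroup.centralizer (A : Set G) ≤ H₀)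
    {r s : ℕ} [hr : Fact r.Prime] [hs : Fact s.Prime] (hrp : r ≠ p) (hsp : s ≠ p) (hsr : s < r)
    {W Ur Us L₀ L₁ : Subgroup G} (hWtop : W ≠ ⊤)
    (hW : ∀ q : ℕ, q.Prime → q ∣ Nat.card ↥W → q = r ∨ q = s)
    (hUr : Cfsg.IsPiHallOf {r} Ur W) (hUs : Cfsg.IsPiHallOf {s} Us W)
    (hAUr : A ≤ Subgroup.normalizer (Ur : Set G)) (hAUs : A ≤ Subgroup.normalizer (Us : Set G))
    (hrr : Cfsg.PRankLE r 2 ↥Ur) (hrs : Cfsg.PRankLE s 2 ↥Us)
    (hL₀ : L₀ ≤ Ur) (hL₀F : L₀ ≤ Cfsg.fittingOf H₀) (hL₀ne : L₀ ≠ ⊥)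
    (hL₁ : L₁ ≤ Us) (hAL₁ : A ≤ Subgroup.normalizer (L₁ : Set G)) : L₁ ≤ H₀ := by
  have hWodd : Odd (Nat.card ↥W) := odd_card_subgroup hG W
  have hWs : Group.IsSolvable ↥W := solvable_of_ne_top hG hWtop
  have hWN : W ≤ Subgroup.normalizer (Ur : Set G) :=
    sylow_normal_of_rank_two hsr hWodd hWs hW hUr hUs hrr hrs
  have hUrp : IsPGroup r ↥Ur := isPGroup_of_isPiNat hr.out hUr.2.1
  have hUsp : IsPGroup s ↥Us := isPGroup_of_isPiNat hs.out hUs.2.1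
  have hΓN : Us ⊔ A ≤ Subgroup.normalizer (Ur : Set G) := sup_le (hUs.1.trans hWN) hAUr
  have hΓodd : Odd (Nat.card ↥(Us ⊔ A)) := odd_card_subgroup hG _
  have hΓcop : (Nat.card ↥(Us ⊔ A)).Coprime r := by
    have h1 := Cfsg.Agent.H1.card_sup_mul_card_inf A Us hAUs
    have hdvd : Nat.card ↥(Us ⊔ A) ∣ Nat.card ↥A * Nat.card ↥Us := by
      rw [sup_comm]
      exact Dvd.intro _ h1
    apply Nat.Coprime.coprime_dvd_left hdvd
    obtain ⟨k, hk⟩ := hAp.exists_card_eq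
    obtain ⟨m, hm⟩ := hUsp.exists_card_eq
    rw [hk, hm]
    apply Nat.Coprime.mul_left
    · exact Nat.Coprime.pow_left k ((Nat.coprime_primes hp.out hr.out).mpr (Ne.symm hrp))
    · exact Nat.Coprime.pow_left m ((Nat.coprime_primes hs.out hr.out).mpr (ne_of_lt hsr))
  have hr2 : r ≠ 2 := by
    have := hs.out.two_le
    omega
  have hcomm := commutator_le_centralizer_of_rank_two hr2 hUrp hrr hΓN hΓodd hΓcop
  have h1 : ⁅L₁, A⁆ ≤ H₀ := by
    have h0 : ⁅L₁, A⁆ ≤ ⁅Us ⊔ A, Us ⊔ A⁆ :=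
      Subgroup.commutator_mono (hL₁.trans le_sup_left) le_sup_right
    refine h0.trans ?_
    refine hcomm.trans ?_
    refine (Subgroup.centralizer_le hL₀).trans ?_
    exact (Subgroup.centralizer_le_normalizer _).trans (hN₀ L₀ hL₀F hL₀ne)
  have hcop : (Nat.card ↥A).Coprime (Nat.card ↥L₁) := by
    obtain ⟨k, hk⟩ := hAp.exists_card_eq
    obtain ⟨m, hm⟩ := (hUsp.to_le hL₁).exists_card_eq
    rw [hk, hm]
    exact Nat.Coprime.pow k m ((Nat.coprime_primes hp.out hs.out).mpr (Ne.symm hsp))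
  have hsolv : Group.IsSolvable ↥L₁ :=
    solvable_of_ne_top hG (fun h => hWtop (top_le_iff.mp (h ▸ (hL₁.trans hUs.1))))
  have h26 := Cfsg.Agent.S0026.result A L₁ hAL₁ hcop (Or.inr hsolv)
  rw [← h26]
  exact sup_le h1 (inf_le_right.trans hC₀)

end Cfsg.Agent.H2.BGU
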