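import Mathlib
import Cfsg.Agent.H2.BGU.L95d

/-!
# BG Lemma 9.5, step (3): two maximal subgroups of type (*) over `A` are impossible
-/

set_option autoImplicit false
set_option linter.unusedVariables false
set_option linter.unusedSectionVars false
set_option linter.style.haveILetI false

open scoped commutatorElement Pointwise

namespace Cfsg.Agent.H2.BGU

open Cfsg Cfsg.Agent.Lib.Helper4.ThreeStep Cfsg.Agent.Lib.Lead.Conj Cfsg.Agent.Lib.Lead.PiCore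
  Cfsg.Agent.Lib.Helper4.BGTrans Cfsg.Agent.Lib.Helper4.Puig

universe u

variable {G : Type u} [Group G] [Finite G]

/-- step (3) of the proof of BG 9.5 -/
theorem two_star_false (hG : Cfsg.IsMinSimpleOddOrder G) {p : ℕ} [hp : Fact p.Prime]
    {A E : Subgroup G} (hTA : Cfsg.TransitivityHypothesis A) (hAp : IsPGroup p ↥A)
    (hAc : IsMulCommutative ↥A) (hE : Cfsg.IsElementaryAbelian p E) (hEA : E ≤ A)
    (hEcard : p ^ 3 ≤ Nat.card ↥E)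
    {H₀ H₁ : Subgroup G} (hH₀ : IsCoatom H₀) (hAH₀ : A ≤ H₀) (hH₁ : IsCoatom H₁) (hAH₁ : A ≤ H₁)
    (hne : H₀ ≠ H₁)
    (hN₀ : ∀ Y : Subgroup G, Y ≤ Cfsg.fittingOf H₀ → Y ≠ ⊥ →
      Subgroup.normalizer (Y : Set G) ≤ H₀)
    (hN₁ : ∀ Y : Subgroup G, Y ≤ Cfsg.fittingOf H₁ → Y ≠ ⊥ →
      Subgroup.normalizer (Y : Set G) ≤ H₁)
    (hC₀ : Subgroup.centralizer (A : Set G) ≤ H₀) (hC₁ : Subgroup.centralizer (A : Set G) ≤ H₁)
    (hd₀ : ∃ s : ℕ, s.Prime ∧ s ≠ p ∧ ¬ Cfsg.PRankLE s 2 ↥(Oq s (Cfsg.fittingOf H₀)) ∧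
      Cfsg.InUniqueMaximal (Oq s (Cfsg.fittingOf H₀)) ∧
      ∀ Q ∈ Cfsg.invSubgroups ⊤ A {s}, Q ≤ H₀)
    (hd₁ : ∃ s : ℕ, s.Prime ∧ s ≠ p ∧ ¬ Cfsg.PRankLE s 2 ↥(Oq s (Cfsg.fittingOf H₁)) ∧
      Cfsg.InUniqueMaximal (Oq s (Cfsg.fittingOf H₁)) ∧
      ∀ Q ∈ Cfsg.invSubgroups ⊤ A {s}, Q ≤ H₁) :
    False := by
  obtain ⟨r, hrP, hrp, hrF, hrU, hrinv⟩ := hd₀
  obtain ⟨s, hsP, hsp, hsF, hsU, hsinv⟩ := hd₁
  haveI hrf : Fact r.Prime := ⟨hrP⟩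
  haveI hsf : Fact s.Prime := ⟨hsP⟩
  have hAcc : A ≤ Subgroup.centralizer (A : Set G) := by
    intro a ha
    rw [Subgroup.mem_centralizer_iff]
    intro x hx
    exact congrArg Subtype.val (hAc.is_comm.comm ⟨x, hx⟩ ⟨a, ha⟩)
  have hY₀H₀ : Oq r (Cfsg.fittingOf H₀) ≤ H₀ := (Oq_le _ _).trans (fittingOf_le _)
  have hY₁H₁ : Oq s (Cfsg.fittingOf H₁) ≤ H₁ := (Oq_le _ _).trans (fittingOf_le _)
  have hY₀p : IsPGroup r ↥(Oq r (Cfsg.fittingOf H₀)) := isPGroup_Oq hrP _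
  have hY₁p : IsPGroup s ↥(Oq s (Cfsg.fittingOf H₁)) := isPGroup_Oq hsP _
  have hAY₀ : A ≤ Subgroup.normalizer (Oq r (Cfsg.fittingOf H₀) : Set G) :=
    hAH₀.trans (le_normalizer_Oq_fittingOf r H₀)
  have hAY₁ : A ≤ Subgroup.normalizer (Oq s (Cfsg.fittingOf H₁) : Set G) :=
    hAH₁.trans (le_normalizer_Oq_fittingOf s H₁)
  have hY₀H₁ : ¬ Oq r (Cfsg.fittingOf H₀) ≤ H₁ := by
    intro h
    obtain ⟨M, -, huniq⟩ := hrU
    exact hne ((huniq H₀ ⟨hH₀, hY₀H₀⟩).trans (huniq H₁ ⟨hH₁, h⟩).symm)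
  have hY₁H₀ : ¬ Oq s (Cfsg.fittingOf H₁) ≤ H₀ := by
    intro h
    obtain ⟨M, -, huniq⟩ := hsU
    exact hne ((huniq H₀ ⟨hH₀, h⟩).trans (huniq H₁ ⟨hH₁, hY₁H₁⟩).symm)
  have hrs : r ≠ s := by
    intro h
    apply hY₀H₁
    apply hsinv
    rw [mem_invSubgroups_top]
    refine ⟨?_, hAY₀⟩
    rw [← h]
    exact isPiNat_of_isPGroup hY₀p
  have hpY₀ : ¬ p ∣ Nat.card ↥(Oq r (Cfsg.fittingOf H₀)) := by
    intro hdvd
    obtain ⟨k, hk⟩ := hY₀p.exists_card_eq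
    rw [hk] at hdvd
    exact hrp ((Nat.prime_dvd_prime_iff_eq hp.out hrP).mp (hp.out.dvd_of_dvd_pow hdvd)).symm
  have hpY₁ : ¬ p ∣ Nat.card ↥(Oq s (Cfsg.fittingOf H₁)) := by
    intro hdvd
    obtain ⟨k, hk⟩ := hY₁p.exists_card_eq
    rw [hk] at hdvd
    exact hsp ((Nat.prime_dvd_prime_iff_eq hp.out hsP).mp (hp.out.dvd_of_dvd_pow hdvd)).symm
  obtain ⟨b, hbE, hb1, hL₀, hL₁⟩ := exists_not_le_of_rank_three hE hEcard (hEA.trans hAY₀)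
    (hEA.trans hAY₁) hpY₀ hpY₁ hY₀H₁ hY₁H₀
  have hbA : b ∈ A := hEA hbE
  have hCtop : Subgroup.centralizer ({b} : Set G) ≠ ⊤ :=
    Cfsg.Agent.Lib.Helper4.BGUniq.centralizer_singleton_ne_top hG hb1
  have hAC : A ≤ Subgroup.centralizer ({b} : Set G) := by
    intro a ha
    rw [Subgroup.mem_centralizer_singleton_iff]
    exact Subgroup.mem_centralizer_iff.mp (hAcc hbA) a ha
  have hWbC : Cfsg.piCoreOf (Cfsg.primesNotDvd (Nat.card ↥A))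
      (Subgroup.centralizer ({b} : Set G)) ≤ Subgroup.centralizer ({b} : Set G) := piCoreOf_le _ _
  have hWbtop : Cfsg.piCoreOf (Cfsg.primesNotDvd (Nat.card ↥A))
      (Subgroup.centralizer ({b} : Set G)) ≠ ⊤ := fun h => hCtop (top_le_iff.mp (h ▸ hWbC))
  have hWbs := solvable_of_ne_top hG hWbtop
  have hAWb : A ≤ Subgroup.normalizer ((Cfsg.piCoreOf (Cfsg.primesNotDvd (Nat.card ↥A))
      (Subgroup.centralizer ({b} : Set G)) : Subgroup G) : Set G) :=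
    hAC.trans (le_normalizer_piCoreOf _ _)
  have hcopWb : (Nat.card ↥A).Coprime (Nat.card ↥(Cfsg.piCoreOf (Cfsg.primesNotDvd (Nat.card ↥A))
      (Subgroup.centralizer ({b} : Set G)))) :=
    coprime_card_of_pi (fun q _ h => h) (isPiNat_piCoreOf _ _)
  obtain ⟨W, hW, hAW⟩ := Cfsg.Agent.H1.exists_invariant_isPiHallOf A _ hAWb hcopWb hWbs
    ({r, s} : Set ℕ)
  have hWtop : W ≠ ⊤ := fun h => hWbtop (top_le_iff.mp (h ▸ hW.1))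
  have hWs := solvable_of_ne_top hG hWtop
  have hcopW : (Nat.card ↥A).Coprime (Nat.card ↥W) :=
    Nat.Coprime.coprime_dvd_right (Subgroup.card_dvd_of_le hW.1) hcopWb
  obtain ⟨Ur, hUr, hAUr⟩ := Cfsg.Agent.H1.exists_invariant_isPiHallOf A W hAW hcopW hWs
    ({r} : Set ℕ)
  obtain ⟨Us, hUs, hAUs⟩ := Cfsg.Agent.H1.exists_invariant_isPiHallOf A W hAW hcopW hWs
    ({s} : Set ℕ)
  have hUr' := isPiHallOf_trans (π := ({r, s} : Set ℕ)) (π' := ({r} : Set ℕ))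
    (fun q hq => Or.inl hq) hUr hW
  have hUs' := isPiHallOf_trans (π := ({r, s} : Set ℕ)) (π' := ({s} : Set ℕ))
    (fun q hq => Or.inr hq) hUs hW
  have hL₀Ur := inf_centralizer_le_hall hG hTA hAp hAcc hH₀ hAH₀ hrp hrinv hbA hb1 hUr' hAUr
  have hL₁Us := inf_centralizer_le_hall hG hTA hAp hAcc hH₁ hAH₁ hsp hsinv hbA hb1 hUs' hAUs
  have hUrH₀ : Ur ≤ H₀ := hrinv Ur (mem_invSubgroups_top.mpr ⟨hUr.2.1, hAUr⟩)
  have hUsH₁ : Us ≤ H₁ := hsinv Us (mem_invSubgroups_top.mpr ⟨hUs.2.1, hAUs⟩)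
  have hCH₀ : ¬ Subgroup.centralizer ({b} : Set G) ≤ H₀ := fun h => hL₁ (inf_le_right.trans h)
  have hCH₁ : ¬ Subgroup.centralizer ({b} : Set G) ≤ H₁ := fun h => hL₀ (inf_le_right.trans h)
  have hrr : Cfsg.PRankLE r 2 ↥Ur :=
    pRankLE_two_of_not_le hG hH₀ hrF hUrH₀ (hUr'.1.trans hWbC) hCtop hCH₀
  have hrs' : Cfsg.PRankLE s 2 ↥Us :=
    pRankLE_two_of_not_le hG hH₁ hsF hUsH₁ (hUs'.1.trans hWbC) hCtop hCH₁
  have hWrs : ∀ q : ℕ, q.Prime → q ∣ Nat.card ↥W → q = r ∨ q = s :=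
    fun q hq hd => hW.2.1 q hq hd
  have hL₀ne : Oq r (Cfsg.fittingOf H₀) ⊓ Subgroup.centralizer ({b} : Set G) ≠ ⊥ :=
    fun h => hL₀ (h ▸ bot_le)
  have hL₁ne : Oq s (Cfsg.fittingOf H₁) ⊓ Subgroup.centralizer ({b} : Set G) ≠ ⊥ :=
    fun h => hL₁ (h ▸ bot_le)
  have hL₀F : Oq r (Cfsg.fittingOf H₀) ⊓ Subgroup.centralizer ({b} : Set G) ≤
      Cfsg.fittingOf H₀ := inf_le_left.trans (Oq_le _ _)
  have hL₁F : Oq s (Cfsg.fittingOf H₁) ⊓ Subgroup.centralizer ({b} : Set G) ≤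
      Cfsg.fittingOf H₁ := inf_le_left.trans (Oq_le _ _)
  have hAL₀ := le_normalizer_inf hAY₀ (hAC.trans Subgroup.le_normalizer)
  have hAL₁ := le_normalizer_inf hAY₁ (hAC.trans Subgroup.le_normalizer)
  rcases lt_or_gt_of_ne hrs with h | h
  · apply hL₀
    exact two_star_core hG hAp hN₁ hC₁ hsp hrp h hWtop (fun q hq hd => (hWrs q hq hd).symm)
      hUs hUr hAUs hAUr hrs' hrr hL₁Us hL₁F hL₁ne hL₀Ur hAL₀
  · apply hL₁
    exact two_star_core hG hAp hN₀ hC₀ hrp hsp h hWtop hWrs hUr hUs hAUr hAUs hrr hrs'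
      hL₀Ur hL₀F hL₀ne hL₁Us hAL₁

end Cfsg.Agent.H2.BGU
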